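import Cfsg.Agent.Lib.Fusion.Alperin
import Cfsg.Agent.Lib.PLocal.Thompson
import Cfsg.Agent.Lib.PSolvable.HallHigman
import Cfsg.Prelude.Def_TwoFusion

/-!
The Alperin-Goldschmidt conjugation family: subgroups `D ≤ P` with `N_P(D)` Sylow in `N(D)`,
`C(D) ≤ O_{p',p}(N(D))` and `O_{p',p}(N(D)) = O_{p'}(N(D)) × D`.
-/

namespace Cfsg.Agent.Lib.Tech42.Goldschmidt

open Subgroup Cfsg.Agent.Lib.Fusion.Alperin
open scoped commutatorElement

set_option autoImplicit false
set_option linter.style.haveILetI false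

section Local

variable {X : Type*} [Group X] [Finite X] {p : ℕ} [hp : Fact p.Prime]

theorem le_pPrimePCore_of_isPGroup {R : Subgroup X} [R.Normal] (hR : IsPGroup p R) :
    R ≤ Cfsg.pPrimePCore p X :=
  (PSolvable.le_pCore inferInstance hR).trans PSolvable.pCore_le_pPrimePCore

theorem pPrimePCore_le_sup (S : Sylow p X) :
    Cfsg.pPrimePCore p X ≤ Cfsg.pPrimeCore p X ⊔ ((S : Subgroup X) ⊓ Cfsg.pPrimePCore p X) := by
  obtain ⟨j, hj⟩ := IsPGroup.iff_card.mp
    (PSolvable.isPGroup_pCore (p := p) (G := X ⧸ Cfsg.pPrimeCore p X))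
  refine PLocal.le_sup_inf_of_relIndex S PSolvable.pPrimeCore_le_pPrimePCore (k := j) ?_
  have := relIndex_ker (K := Cfsg.pPrimePCore p X) (QuotientGroup.mk' (Cfsg.pPrimeCore p X))
  rw [QuotientGroup.ker_mk', PSolvable.map_pPrimePCore, hj] at this
  exact this

theorem disjoint_pPrimeCore {R : Subgroup X} (hR : IsPGroup p R) :
    Cfsg.pPrimeCore p X ⊓ R = ⊥ := by
    rw [← Subgroup.card_eq_one]
    obtain ⟨k, hk⟩ := IsPGroup.iff_card.mp hR
    exact Nat.eq_one_of_dvd_coprimes
      ((PSolvable.card_pPrimeCore_coprime (p := p) (G := X)).pow_right k)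
      (card_dvd_of_le inf_le_left) (hk ▸ card_dvd_of_le inf_le_right)

theorem commute_pPrimeCore {R : Subgroup X} [hRn : R.Normal] (hR : IsPGroup p R) :
    ∀ a ∈ Cfsg.pPrimeCore p X, ∀ b ∈ R, a * b = b * a := by
  intro a ha b hb
  have hK : (Cfsg.pPrimeCore p X).Normal := inferInstance
  exact commute_of_normal_of_disjoint _ _ hK hRn (disjoint_iff.mpr (disjoint_pPrimeCore hR)) a b ha hb

/-- If a Sylow subgroup meets `C(R)` inside the normal `p`-subgroup `R`, then
`C(R) ≤ O_{p'}(X) R`. -/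
theorem centralizer_le_sup {R : Subgroup X} [hRn : R.Normal] (S : Sylow p X)
    (h : (S : Subgroup X) ⊓ centralizer (R : Set X) ≤ R) :
    centralizer (R : Set X) ≤ Cfsg.pPrimeCore p X ⊔ R := by
  set C := centralizer (R : Set X) with hC
  haveI : C.Normal := normal_centralizer
  set Z := (S : Subgroup X) ⊓ C with hZ
  have hidx : ¬ p ∣ Z.relIndex C := PLocal.not_dvd_relIndex_inf S C
  set Z' := Z.subgroupOf C with hZ'
  obtain ⟨m, hm⟩ := IsPGroup.iff_card.mp ((S.isPGroup'.to_le inf_le_left : IsPGroup p Z))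
  have hZc : Nat.card Z' = p ^ m :=
    (Nat.card_congr (subgroupOfEquivOfLe inf_le_right).toEquiv).trans hm
  have hcen : Z' ≤ center C := by
    intro z hz
    rw [mem_center_iff]
    intro c
    exact Subtype.ext (mem_centralizer_iff.mp c.2 (z : X) (h hz)).symm
  haveI : Z'.Normal := ⟨fun z hz g => by
    rw [mem_center_iff.mp (hcen hz) g, mul_inv_cancel_right]; exact hz⟩
  have hcop : (Nat.card Z').Coprime Z'.index := by
    rw [hZc]
    exact Nat.Coprime.pow_left _ (hp.out.coprime_iff_not_dvd.mpr hidx)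
  obtain ⟨K, hK⟩ := exists_right_complement'_of_coprime hcop
  haveI hKn : K.Normal := by
    rw [← normalizer_eq_top_iff, ← top_le_iff, ← hK.sup_eq_top, sup_le_iff]
    exact ⟨hcen.trans (center_le_normalizer _), le_normalizer⟩
  have hKcard : Nat.card K = Z'.index := by
    have h1 := hK.card_mul_card
    rw [← card_mul_index Z'] at h1
    exact Nat.eq_of_mul_eq_mul_left Nat.card_pos h1
  have hKidx : K.index = p ^ m := by
    have h1 := hK.card_mul_card
    rw [← card_mul_index K, mul_comm (Nat.card Z'), hZc] at h1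
    exact (Nat.eq_of_mul_eq_mul_left Nat.card_pos h1).symm
  set KX := K.map C.subtype with hKX
  haveI : KX.Normal := by
    constructor
    rintro _ ⟨k, hk, rfl⟩ g
    have hmem : g * (k : X) * g⁻¹ ∈ C := (inferInstance : C.Normal).conj_mem _ k.2 g
    refine ⟨⟨_, hmem⟩, ?_, rfl⟩
    show (⟨_, hmem⟩ : C) ∈ K
    rw [← QuotientGroup.eq_one_iff (N := K), ← orderOf_eq_one_iff]
    refine Nat.eq_one_of_dvd_coprimes (hcop : (Nat.card Z').Coprime Z'.index) ?_ ?_
    · rw [hZc, ← hKidx, index_eq_card]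
      exact orderOf_dvd_natCard _
    · refine (orderOf_map_dvd (QuotientGroup.mk' K) (⟨_, hmem⟩ : C)).trans ?_
      rw [← hKcard, orderOf_dvd_iff_pow_eq_one]
      have hk1 : (k : X) ^ Nat.card K = 1 := by
        have := orderOf_dvd_iff_pow_eq_one.mp (K.orderOf_dvd_natCard hk)
        exact congrArg Subtype.val this
      exact Subtype.ext (by simp [conj_pow, hk1])
  have hKle : KX ≤ Cfsg.pPrimeCore p X := by
    refine PSolvable.le_pPrimeCore inferInstance ?_
    rw [card_map_of_injective C.subtype_injective, hKcard]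
    exact (hp.out.coprime_iff_not_dvd.mpr hidx).symm
  calc C = (⊤ : Subgroup C).map C.subtype := by rw [← MonoidHom.range_eq_map, range_subtype]
    _ = Z'.map C.subtype ⊔ KX := by rw [← hK.sup_eq_top, Subgroup.map_sup]
    _ ≤ Cfsg.pPrimeCore p X ⊔ R := sup_le
        (le_sup_of_le_right (by rw [map_subgroupOf_eq_of_le inf_le_right]; exact h))
        (le_sup_of_le_left hKle)

end Local

variable {G : Type*} [Group G] [Finite G] {p : ℕ} [hp : Fact p.Prime]

/-- Members of the conjugation family. -/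
def IsMember (p : ℕ) (P D : Subgroup G) : Prop :=
  D ≤ P ∧
    centralizer (D : Set G) ≤
      (Cfsg.pPrimePCore p ↥(normalizer (D : Set G))).map (normalizer (D : Set G)).subtype ∧
    Cfsg.IsInternalDirectProduct
      ((Cfsg.pPrimeCore p ↥(normalizer (D : Set G))).map (normalizer (D : Set G)).subtype) D
      ((Cfsg.pPrimePCore p ↥(normalizer (D : Set G))).map (normalizer (D : Set G)).subtype) ∧
    ¬ p ∣ (P ⊓ normalizer (D : Set G)).relIndex (normalizer (D : Set G))

/-- `g` is a product of conjugations inside members, up to centralizing elements;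
the action is `a ↦ g⁻¹ a g`. -/
inductive Good (p : ℕ) (P : Subgroup G) : Set G → G → Prop
  | cen {A : Set G} {g : G} (h : g ∈ centralizer A) : Good p P A g
  | member {A : Set G} {g : G} {D : Subgroup G} (hD : IsMember p P D) (hA : A ⊆ D)
      (hg : g ∈ normalizer (D : Set G)) : Good p P A g
  | comp {A : Set G} {g h : G} (h₁ : Good p P A g)
      (h₂ : Good p P ((fun a => g⁻¹ * a * g) '' A) h) : Good p P A (g * h)

omit [Finite G] hp in
theorem Good.mono {P : Subgroup G} {A : Set G} {g : G} (h : Good p P A g) :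
    ∀ {B : Set G}, B ⊆ A → Good p P B g := by
  induction h with
  | cen h => exact fun hB => .cen (centralizer_le hB h)
  | member hD hA hg => exact fun hB => .member hD (hB.trans hA) hg
  | comp _ _ ih₁ ih₂ => exact fun hB => .comp (ih₁ hB) (ih₂ (Set.image_mono hB))

/-- `P ∩ N(R)` is a Sylow subgroup of `N(R)` when `R` is fully normalized. -/
theorem exists_sylow_normalizer (P : Sylow p G) {R : Subgroup G}
    (hR : IsFullyNormalized p (P : Subgroup G) R) :
    ∃ S : Sylow p ↥(normalizer (R : Set G)),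
      (S : Subgroup _) = (P : Subgroup G).subgroupOf (normalizer (R : Set G)) := by
  obtain ⟨S, hS⟩ := (P.isPGroup'.comap_subtype (K := normalizer (R : Set G))).exists_le_sylow
  refine ⟨S, le_antisymm ?_ hS⟩
  have h := hR ((S : Subgroup _).map (normalizer (R : Set G)).subtype) (S.isPGroup'.map _)
    (map_subtype_le _) (fun x hx => ⟨⟨x, (mem_inf.mp hx).2⟩, hS (mem_inf.mp hx).1, rfl⟩)
  intro x hx
  have : (x : G) ∈ (P : Subgroup G) ⊓ normalizer (R : Set G) := h ▸ mem_map_of_mem _ hx
  exact (mem_inf.mp this).1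

theorem isMember_or_step (P : Sylow p G) {R : Subgroup G} (hRP : R ≤ P)
    (hR : IsFullyNormalized p (P : Subgroup G) R) :
    IsMember p (P : Subgroup G) R ∨ ∀ n ∈ normalizer (R : Set G),
      ∃ R₁ : Subgroup G, R < R₁ ∧ R₁ ≤ P ∧ ∃ c ∈ centralizer (R : Set G),
        ∃ n₁ ∈ normalizer (R₁ : Set G), n = c * n₁ := by
  set N := normalizer (R : Set G) with hN
  obtain ⟨S, hS⟩ := exists_sylow_normalizer P hR
  set R' := R.subgroupOf N with hR'
  haveI hR'n : R'.Normal := normal_in_normalizer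
  have hR'p : IsPGroup p R' := (P.isPGroup'.to_le hRP).comap_subtype
  have hR'S : R' ≤ (S : Subgroup N) := by rw [hS]; exact fun x hx => hRP hx
  have hmapR : R'.map N.subtype = R := map_subgroupOf_eq_of_le le_normalizer
  set O := Cfsg.pPrimePCore p N with hO
  set K := Cfsg.pPrimeCore p N with hK
  have hcen : ∀ c : N, c ∈ centralizer (R' : Set N) → (c : G) ∈ centralizer (R : Set G) := by
    intro c hc
    rw [mem_centralizer_iff]
    intro r hr
    exact congrArg Subtype.val (mem_centralizer_iff.mp hc ⟨r, le_normalizer hr⟩ hr)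
  -- a normal subgroup `L` with Sylow subgroup bigger than `R`
  have hstep : ∀ L : Subgroup N, L.Normal → ¬ (S : Subgroup N) ⊓ L ≤ R' → R' ≤ L →
      L ≤ centralizer (R' : Set N) ⊔ ((S : Subgroup N) ⊓ L) → ∀ n ∈ N,
      ∃ R₁ : Subgroup G, R < R₁ ∧ R₁ ≤ P ∧ ∃ c ∈ centralizer (R : Set G),
        ∃ n₁ ∈ normalizer (R₁ : Set G), n = c * n₁ := by
    intro L hL hne hRL hLle n hn
    haveI := hL
    set R1 := (S : Subgroup N) ⊓ L with hR1
    refine ⟨R1.map N.subtype, ?_, ?_, ?_⟩
    · refine lt_of_le_of_ne (hmapR ▸ map_mono (le_inf hR'S hRL)) fun h => hne ?_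
      rw [← Subgroup.map_le_map_iff_of_injective N.subtype_injective, hmapR, ← h]
    · rintro _ ⟨x, hx, rfl⟩
      exact hS.le (mem_inf.mp hx).1
    · haveI : (centralizer (R' : Set N)).Normal := normal_centralizer
      have htop : centralizer (R' : Set N) ⊔ normalizer (R1 : Set N) = ⊤ := by
        rw [← top_le_iff, ← PLocal.normalizer_inf_sup_eq_top S L]
        exact sup_le le_sup_right (hLle.trans (sup_le le_sup_left (le_sup_of_le_right le_normalizer)))
      obtain ⟨c, hc, n₁, hn₁, he⟩ := mem_sup_of_normal_left.mp (htop ▸ mem_top (⟨n, hn⟩ : N))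
      refine ⟨c, hcen c hc, n₁, le_normalizer_map N.subtype (mem_map_of_mem _ hn₁), ?_⟩
      exact (congrArg Subtype.val he).symm
  by_cases h1 : (S : Subgroup N) ⊓ O ≤ R'
  swap
  · refine Or.inr (hstep O inferInstance h1 (le_pPrimePCore_of_isPGroup hR'p) ?_)
    refine (pPrimePCore_le_sup S).trans (sup_le (le_sup_of_le_left ?_) le_sup_right)
    intro k hk
    rw [mem_centralizer_iff]
    intro r hr
    exact (commute_pPrimeCore hR'p k hk r hr).symm
  by_cases h2 : (S : Subgroup N) ⊓ centralizer (R' : Set N) ≤ R'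
  swap
  · haveI : (centralizer (R' : Set N)).Normal := normal_centralizer
    refine Or.inr (hstep (centralizer (R' : Set N) ⊔ R') inferInstance ?_ le_sup_right
      (sup_le le_sup_left (le_sup_of_le_right (le_inf hR'S le_sup_right))))
    exact fun h => h2 ((inf_le_inf_left _ le_sup_left).trans h)
  refine Or.inl ⟨hRP, ?_, ⟨?_, ?_, ?_, ?_, ?_⟩, ?_⟩
  · intro c hc
    have hcN : c ∈ N := centralizer_le_normalizer _ hc
    refine ⟨⟨c, hcN⟩, (centralizer_le_sup S h2).trans (sup_le PSolvable.pPrimeCore_le_pPrimePCore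
      (le_pPrimePCore_of_isPGroup hR'p)) ?_, rfl⟩
    rw [mem_centralizer_iff]
    intro r hr
    exact Subtype.ext (mem_centralizer_iff.mp hc r hr)
  · exact map_mono PSolvable.pPrimeCore_le_pPrimePCore
  · exact hmapR.ge.trans (map_mono (le_pPrimePCore_of_isPGroup hR'p))
  · rintro _ ⟨a, ha, rfl⟩ b hb
    exact congrArg Subtype.val (commute_pPrimeCore hR'p a ha ⟨b, le_normalizer hb⟩ hb)
  · show K.map N.subtype ⊓ R = ⊥
    rw [← hmapR, ← map_inf _ _ _ N.subtype_injective, disjoint_pPrimeCore hR'p, Subgroup.map_bot]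
  · refine le_antisymm (sup_le (map_mono PSolvable.pPrimeCore_le_pPrimePCore)
      (hmapR.ge.trans (map_mono (le_pPrimePCore_of_isPGroup hR'p)))) ?_
    show O.map N.subtype ≤ K.map N.subtype ⊔ R
    rw [← hmapR, ← Subgroup.map_sup]
    exact map_mono ((pPrimePCore_le_sup S).trans (sup_le_sup_left h1 _))
  · rw [inf_relIndex_right, Subgroup.relIndex, ← hS]
    exact S.not_dvd_index

theorem good_of_chain (P : Sylow p G) (hmem : ∀ R : Subgroup G, ∀ n ∈ normalizer (R : Set G),
      IsFusionBase p (P : Subgroup G) R → Good p (P : Subgroup G) (R : Set G) n)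
    {A : Subgroup G} {g : G} (h : FusionChain p (P : Subgroup G) A g) :
    Good p (P : Subgroup G) (A : Set G) g⁻¹ := by
  induction h with
  | base hR hAR hn => exact (hmem _ _ (inv_mem hn) hR).mono hAR
  | @comp A g h h₁ h₂ ih₁ ih₂ =>
    rw [mul_inv_rev]
    refine .comp ih₁ (ih₂.mono ?_)
    rintro _ ⟨a, ha, rfl⟩
    simpa using conj_mem_conjS (g := g) ha

theorem exists_base_ge {P A : Subgroup G} {g : G} (h : FusionChain p P A g) :
    ∀ (Φ : Subgroup G → G → Prop),
      (∀ (B R : Subgroup G) (n : G), IsFusionBase p P R → B ≤ R → n ∈ normalizer (R : Set G) →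
        Nat.card A ≤ Nat.card B → Φ B n) →
      (∀ (B : Subgroup G) (g h : G), Φ B g → Φ (conjS g B) h → Φ B (h * g)) → Φ A g := by
  induction h with
  | base hR hAR hn => exact fun Φ hb _ => hb _ _ _ hR hAR hn le_rfl
  | @comp A g h h₁ h₂ ih₁ ih₂ =>
    exact fun Φ hb hc => hc _ _ _ (ih₁ Φ hb hc)
      (ih₂ Φ (fun B R n h1 h2 h3 h4 => hb B R n h1 h2 h3 (by rwa [card_conjS] at h4)) hc)

theorem good_base (P : Sylow p G) :
    ∀ (R : Subgroup G), R ≤ P → IsFullyNormalized p (P : Subgroup G) R →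
      ∀ n ∈ normalizer (R : Set G), Good p (P : Subgroup G) (R : Set G) n := by
  intro R
  induction hd : Nat.card P - Nat.card R using Nat.strong_induction_on generalizing R with
  | _ d ih =>
  intro hRP hR n hn
  rcases isMember_or_step P hRP hR with h | h
  · exact .member h subset_rfl hn
  obtain ⟨R₁, hlt, hR₁P, c, hc, n₁, hn₁, rfl⟩ := h n hn
  have hcardlt : Nat.card R < Nat.card R₁ := lt_of_le_of_ne (card_le_of_le hlt.le) fun he =>
    hlt.ne (eq_of_le_of_card_ge hlt.le he.ge)
  have key : Good p (P : Subgroup G) (R₁ : Set G) n₁ := by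
    have h' : conjS n₁⁻¹ R₁ ≤ P := by
      rw [conjS_eq_of_mem_normalizer (inv_mem hn₁)]; exact hR₁P
    have := exists_base_ge (alperin P R₁ n₁⁻¹ hR₁P h')
      (fun B m => Good p (P : Subgroup G) (B : Set G) m⁻¹) ?_ ?_
    · simpa using this
    · intro B R' m hb hBR hm hcard
      refine (ih _ ?_ R' rfl hb.1 hb.2.1 _ (inv_mem hm)).mono hBR
      have := card_le_of_le hBR
      have := card_le_of_le hb.1
      omega
    · intro B g h h1 h2
      show Good p _ _ (h * g)⁻¹
      rw [mul_inv_rev]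
      refine .comp h1 (h2.mono ?_)
      rintro _ ⟨a, ha, rfl⟩
      simpa using conj_mem_conjS (g := g) ha
  refine .comp (.cen hc) (key.mono ?_)
  rintro _ ⟨a, ha, rfl⟩
  simp only [SetLike.mem_coe]
  rw [mul_assoc, mem_centralizer_iff.mp hc a ha, ← mul_assoc, inv_mul_cancel, one_mul]
  exact hlt.le ha

theorem good_of_conj (P : Sylow p G) {A : Set G} (hA : A ⊆ (P : Set G)) (g : G)
    (hg : (fun a => g⁻¹ * a * g) '' A ⊆ (P : Set G)) : Good p (P : Subgroup G) A g := by
  have hA' : closure A ≤ (P : Subgroup G) := (closure_le _).mpr hA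
  have hg' : conjS g⁻¹ (closure A) ≤ (P : Subgroup G) := by
    rw [conjS, MonoidHom.map_closure, closure_le]
    rintro _ ⟨a, ha, rfl⟩
    exact hg ⟨a, ha, by simp⟩
  have h := good_of_chain P (fun R n hn hR => good_base P R hR.1 hR.2.1 n hn)
    (alperin P (closure A) g⁻¹ hA' hg')
  rw [inv_inv] at h
  exact h.mono subset_closure

theorem isMember_self (P : Sylow p G) : IsMember p (P : Subgroup G) (P : Subgroup G) := by
  have hfn : IsFullyNormalized p (P : Subgroup G) (P : Subgroup G) := by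
    intro T hT _ hle
    rw [inf_eq_left.2 le_normalizer] at hle ⊢
    exact P.3 hT hle
  refine (isMember_or_step P le_rfl hfn).resolve_right fun h => ?_
  obtain ⟨R₁, hlt, hle, -⟩ := h 1 (one_mem _)
  exact hlt.not_ge hle

/-- Moving along a list of member conjugations. -/
def IsPath (p : ℕ) (P : Subgroup G) : Set G → List (Subgroup G × G) → Prop
  | _, [] => True
  | A, (D, x) :: l => IsMember p P D ∧ A ⊆ (D : Set G) ∧ x ∈ normalizer (D : Set G) ∧
      IsPath p P ((fun a => x⁻¹ * a * x) '' A) l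

omit [Finite G] hp in
theorem IsPath.append {P : Subgroup G} : ∀ {A : Set G} {l m : List (Subgroup G × G)},
    IsPath p P A l →
    IsPath p P ((fun a => (l.map Prod.snd).prod⁻¹ * a * (l.map Prod.snd).prod) '' A) m →
    IsPath p P A (l ++ m)
  | A, [], m, _, hm => by simpa using hm
  | A, (D, x) :: l, m, ⟨h1, h2, h3, h4⟩, hm => by
    refine ⟨h1, h2, h3, IsPath.append h4 ?_⟩
    rw [Set.image_image]
    simpa [mul_assoc] using hm

omit [Finite G] hp in
theorem Good.exists_path {P : Subgroup G} {A : Set G} {g : G} (h : Good p P A g) :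
    ∃ l, IsPath p P A l ∧ ∃ c ∈ centralizer A, g = c * (l.map Prod.snd).prod := by
  induction h with
  | @cen A g h => exact ⟨[], trivial, g, h, by simp⟩
  | @member A g D hD hA hg =>
    exact ⟨[(D, g)], ⟨hD, hA, hg, trivial⟩, 1, one_mem _, by simp⟩
  | @comp A g h h₁ h₂ ih₁ ih₂ =>
    obtain ⟨l, hl, c, hc, rfl⟩ := ih₁
    obtain ⟨m, hm, d, hd, rfl⟩ := ih₂
    set π := (l.map Prod.snd).prod
    have himg : ∀ a ∈ A, (c * π)⁻¹ * a * (c * π) = π⁻¹ * a * π := by
      intro a ha
      calc (c * π)⁻¹ * a * (c * π) = π⁻¹ * (c⁻¹ * (a * c)) * π := by group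
        _ = π⁻¹ * a * π := by rw [mem_centralizer_iff.mp hc a ha]; group
    refine ⟨l ++ m, hl.append ?_, c * (π * d * π⁻¹), mul_mem hc ?_, ?_⟩
    · rwa [Set.image_congr himg] at hm
    · rw [mem_centralizer_iff]
      intro a ha
      have h1 := mem_centralizer_iff.mp hd _ ⟨a, ha, rfl⟩
      simp only at h1
      rw [himg a ha] at h1
      calc a * (π * d * π⁻¹) = π * (π⁻¹ * a * π * d) * π⁻¹ := by group
        _ = π * d * π⁻¹ * a := by rw [h1]; group
    · rw [List.map_append, List.prod_append]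
      show c * π * (d * _) = c * (π * d * π⁻¹) * (π * _)
      group

omit [Finite G] hp in
theorem IsPath.get {P : Subgroup G} : ∀ {A : Set G} {l : List (Subgroup G × G)}, IsPath p P A l →
    ∀ i : Fin l.length, IsMember p P (l.get i).1 ∧ (l.get i).2 ∈ normalizer ((l.get i).1 : Set G) ∧
      (fun a => ((l.map Prod.snd).take i).prod⁻¹ * a * ((l.map Prod.snd).take i).prod) '' A ⊆
        ((l.get i).1 : Set G)
  | A, (D, x) :: l, ⟨h1, h2, h3, h4⟩, ⟨0, _⟩ => ⟨h1, h3, by simpa using h2⟩
  | A, (D, x) :: l, ⟨h1, h2, h3, h4⟩, ⟨i + 1, hi⟩ => by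
    obtain ⟨g1, g2, g3⟩ := IsPath.get h4 ⟨i, Nat.lt_of_succ_lt_succ hi⟩
    refine ⟨g1, g2, ?_⟩
    rw [Set.image_image] at g3
    simpa [mul_assoc] using g3

end Cfsg.Agent.Lib.Tech42.Goldschmidt
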