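import Cfsg.Prelude.Def_Transfer
import Cfsg.Agent.Lib.SignDiag.Basic
import Cfsg.Agent.Lib.PGroups.Omega
import Mathlib.GroupTheory.Transfer
import Mathlib.GroupTheory.PGroup

/-!
A group without subgroups of index two whose Sylow 2-subgroup is a subgroup of `GL₃` over an odd
field containing an elementary abelian subgroup of order 8 has abelian Sylow 2-subgroup: the
transfer of `-1` under the determinant is `-1`.

Owner: helper42.
-/

set_option autoImplicit false
set_option linter.style.haveILetI false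

open Cfsg
open scoped commutatorElement

namespace Cfsg.Agent.Lib.Tech42.AbelianGL3

variable {G : Type*} [Group G] [Finite G] {F : Type*} [Field F] [Fintype F]

/-- A central involution of a Sylow 2-subgroup all whose conjugates by the normalizer have sign
`-1` under a linear character gives a subgroup of index two. -/
theorem exists_index_two (h2 : (2 : F) ≠ 0) (X : Sylow 2 G) (ψ : ↥(X : Subgroup G) →* Fˣ)
    (c : ↥(X : Subgroup G)) (hc : c ^ 2 = 1) (hcX : ∀ x : ↥(X : Subgroup G), Commute x c)
    (hN : ∀ g ∈ Subgroup.normalizer ((X : Subgroup G) : Set G), ∀ u : ↥(X : Subgroup G),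
      (u : G) = g⁻¹ * c * g → ψ u = -1) : ∃ H : Subgroup G, H.index = 2 := by
  classical
  haveI : Fact (Nat.Prime 2) := ⟨Nat.prime_two⟩
  haveI : (X : Subgroup G).FiniteIndex := Subgroup.finiteIndex_of_finite
  letI : Fintype (G ⧸ (X : Subgroup G)) := Fintype.ofFinite _
  letI : Fintype (Quotient (MulAction.orbitRel (Subgroup.zpowers (c : G)) (G ⧸ (X : Subgroup G)))) :=
    Fintype.ofFinite _
  have hne : (-1 : Fˣ) ≠ 1 := fun h => h2 (by
    have := congrArg Units.val h
    simp only [Units.val_neg, Units.val_one] at this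
    linear_combination -this)
  have hpm : ∀ v : ↥(X : Subgroup G), v ^ 2 = 1 → ψ v = 1 ∨ ψ v = -1 := fun v hv => by
    have h : (ψ v) ^ 2 = 1 := by rw [← map_pow, hv, map_one]
    rcases sq_eq_one_iff.1 (congrArg Units.val h : (ψ v : F) ^ 2 = 1) with h' | h'
    · exact Or.inl (Units.ext h')
    · exact Or.inr (Units.ext (by simpa using h'))
  have hcG : (c : G) ^ 2 = 1 := congrArg Subtype.val hc
  let h : G ⧸ (X : Subgroup G) → Fˣ := fun x =>
    if hx : x.out⁻¹ * c * x.out ∈ (X : Subgroup G) then ψ ⟨_, hx⟩ else 1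
  have hh : ∀ (g : G) (hg : g⁻¹ * c * g ∈ (X : Subgroup G)),
      h (QuotientGroup.mk g) = ψ ⟨_, hg⟩ := by
    intro g hg
    obtain ⟨y, hy⟩ := QuotientGroup.mk_out_eq_mul (X : Subgroup G) g
    have he : (QuotientGroup.mk g : G ⧸ (X : Subgroup G)).out⁻¹ * c *
        (QuotientGroup.mk g : G ⧸ (X : Subgroup G)).out = (y : G)⁻¹ * (g⁻¹ * c * g) * y := by
      rw [hy]; group
    have hmem : (QuotientGroup.mk g : G ⧸ (X : Subgroup G)).out⁻¹ * c *
        (QuotientGroup.mk g : G ⧸ (X : Subgroup G)).out ∈ (X : Subgroup G) := by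
      rw [he]; exact mul_mem (mul_mem (inv_mem y.2) hg) y.2
    simp only [h, dif_pos hmem]
    rw [show (⟨_, hmem⟩ : ↥(X : Subgroup G)) = y⁻¹ * ⟨_, hg⟩ * y from Subtype.ext he, map_mul,
      map_mul, map_inv, mul_right_comm, inv_mul_cancel, one_mul]
  have hhfix : ∀ x : G ⧸ (X : Subgroup G), (c : G) • x = x → h x = 1 ∨ h x = -1 := by
    intro x hx
    obtain ⟨g, rfl⟩ := QuotientGroup.mk_surjective x
    have hg : g⁻¹ * c * g ∈ (X : Subgroup G) := by
      have h1 : ((c : G) * g)⁻¹ * g ∈ (X : Subgroup G) := QuotientGroup.eq.1 hx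
      have h2' := inv_mem h1
      simpa [mul_assoc] using h2'
    rw [hh g hg]
    refine hpm _ (Subtype.ext ?_)
    show (g⁻¹ * c * g) ^ 2 = 1
    calc (g⁻¹ * c * g) ^ 2 = g⁻¹ * (c : G) ^ 2 * g := by rw [pow_two, pow_two]; group
      _ = 1 := by rw [hcG, mul_one, inv_mul_cancel]
  -- the transfer of `c`
  let Fx : Finset (G ⧸ (X : Subgroup G)) := Finset.univ.filter fun x => (c : G) • x = x
  have htr : MonoidHom.transfer ψ (c : G) = ∏ x ∈ Fx, h x := by
    rw [MonoidHom.transfer_eq_prod_quotient_orbitRel_zpowers_quot]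
    symm
    refine Finset.prod_bij_ne_one (fun x _ _ => (Quotient.mk'' x :
      Quotient (MulAction.orbitRel (Subgroup.zpowers (c : G)) (G ⧸ (X : Subgroup G)))))
      (fun x _ _ => Finset.mem_univ _) ?_ ?_ ?_
    · intro x hx _ y hy _ hxy
      obtain ⟨⟨z, i, rfl⟩, hz⟩ := MulAction.orbitRel_apply.1 (Quotient.exact' hxy)
      have hy' : (c : G) • y = y := (Finset.mem_filter.1 hy).2
      have : (c : G) ^ i • y = y := zpow_mem (show (c : G) ∈ MulAction.stabilizer G y from hy') i
      exact hz.symm.trans this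
    · intro q _ hq
      have hq' : (c : G) • q.out = q.out := by
        by_contra hne'
        refine hq ?_
        have hper : Function.minimalPeriod ((c : G) • ·) q.out = 2 :=
          Function.minimalPeriod_eq_prime (p := 2)
            (show ((c : G) • ·)^[2] q.out = q.out by
              simp [Function.iterate_succ, smul_smul, ← pow_two, hcG]) hne'
        convert map_one ψ
        simp [hper, hcG]
      refine ⟨q.out, Finset.mem_filter.2 ⟨Finset.mem_univ _, hq'⟩, ?_, Quotient.out_eq' q⟩
      intro h1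
      refine hq ?_
      have hper : Function.minimalPeriod ((c : G) • ·) q.out = 1 :=
        Function.minimalPeriod_eq_one_iff_isFixedPt.2 hq'
      rw [← h1]
      have hmem : q.out.out⁻¹ * c * q.out.out ∈ (X : Subgroup G) := by
        have := QuotientGroup.out_conj_pow_minimalPeriod_mem (X : Subgroup G) (c : G) q.out
        rwa [hper, pow_one] at this
      simp only [h, dif_pos hmem]
      congr 1
      exact Subtype.ext (by simp [hper])
    · intro x hx hx1
      have hxf : (c : G) • x = x := (Finset.mem_filter.1 hx).2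
      have hout : (Quotient.mk'' x : Quotient (MulAction.orbitRel (Subgroup.zpowers (c : G))
          (G ⧸ (X : Subgroup G)))).out = x := by
        obtain ⟨⟨z, i, rfl⟩, hz⟩ := MulAction.orbitRel_apply.1 (Quotient.exact'
          (Quotient.out_eq' (Quotient.mk'' x : Quotient (MulAction.orbitRel
            (Subgroup.zpowers (c : G)) (G ⧸ (X : Subgroup G))))))
        exact hz.symm.trans (zpow_mem (show (c : G) ∈ MulAction.stabilizer G x from hxf) i)
      have hper : Function.minimalPeriod ((c : G) • ·) x = 1 :=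
        Function.minimalPeriod_eq_one_iff_isFixedPt.2 hxf
      have hmem : x.out⁻¹ * c * x.out ∈ (X : Subgroup G) := by
        have := QuotientGroup.out_conj_pow_minimalPeriod_mem (X : Subgroup G) (c : G) x
        rwa [hper, pow_one] at this
      simp only [h, dif_pos hmem]
      congr 1
      exact Subtype.ext (by simp [hout, hper])
  let S : Finset (G ⧸ (X : Subgroup G)) := Fx.filter fun x => h x = -1
  have htr' : MonoidHom.transfer ψ (c : G) = (-1) ^ S.card := by
    rw [htr, ← Finset.prod_filter_mul_prod_filter_not Fx (fun x => h x = -1),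
      Finset.prod_congr rfl (g := fun _ => (-1 : Fˣ)) (fun x hx => (Finset.mem_filter.1 hx).2),
      Finset.prod_const, Finset.prod_eq_one (s := Fx.filter fun x => ¬ h x = -1) fun x hx =>
        (hhfix x (Finset.mem_filter.1 (Finset.mem_filter.1 hx).1).2).resolve_right
          (Finset.mem_filter.1 hx).2, mul_one]
  -- `X` acts on `S`; its fixed points are the cosets in the normalizer
  have hSmem : ∀ x, x ∈ S ↔ (c : G) • x = x ∧ h x = -1 := fun x => by
    simp [S, Fx]
  have hodd : Odd S.card := by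
    let Sset : SubMulAction ↥(X : Subgroup G) (G ⧸ (X : Subgroup G)) :=
      { carrier := {x | (c : G) • x = x ∧ h x = -1}
        smul_mem' := by
          rintro ⟨y, hy⟩ x ⟨hx, hx'⟩
          obtain ⟨g, rfl⟩ := QuotientGroup.mk_surjective x
          have hyc : (c : G) * y = y * c := (congrArg Subtype.val (hcX ⟨y, hy⟩).eq :).symm
          have hg : g⁻¹ * c * g ∈ (X : Subgroup G) := by
            have := inv_mem (QuotientGroup.eq.1 hx : ((c : G) * g)⁻¹ * g ∈ (X : Subgroup G))
            simpa [mul_assoc] using this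
          have he : (y * g)⁻¹ * c * (y * g) = g⁻¹ * c * g := by
            rw [mul_inv_rev, mul_assoc g⁻¹, mul_assoc g⁻¹, mul_assoc (y⁻¹), ← mul_assoc (c : G),
              hyc]
            group
          refine ⟨?_, ?_⟩
          · show ((c : G) * (y * g) : G ⧸ (X : Subgroup G)) = ((y * g : G) : G ⧸ (X : Subgroup G))
            rw [QuotientGroup.eq]
            have := inv_mem hg
            rw [← he] at this
            simpa [mul_assoc] using this
          · show h ((y * g : G) : G ⧸ (X : Subgroup G)) = -1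
            rw [hh (y * g) (he.symm ▸ hg), ← hx', hh g hg]
            exact congrArg ψ (Subtype.ext he) }
    have hScard : Nat.card ↥Sset = S.card := by
      rw [← Fintype.card_coe, ← Nat.card_eq_fintype_card]
      exact Nat.card_congr (Equiv.subtypeEquivRight fun x => (hSmem x).symm)
    have hmod : Nat.card ↥Sset ≡ Nat.card (MulAction.fixedPoints ↥(X : Subgroup G) ↥Sset) [MOD 2] :=
      X.isPGroup'.card_modEq_card_fixedPoints ↥Sset
    have hN' : Nat.card (MulAction.fixedPoints ↥(X : Subgroup G) ↥Sset) =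
        Nat.card (MulAction.fixedPoints ↥(X : Subgroup G) (G ⧸ (X : Subgroup G))) := by
      refine Nat.card_congr
        { toFun := fun x => ⟨x.1.1, fun y => congrArg Subtype.val (x.2 y)⟩
          invFun := fun x => ⟨⟨x.1, ?_⟩, fun y => Subtype.ext (x.2 y)⟩
          left_inv := fun x => rfl
          right_inv := fun x => rfl }
      obtain ⟨g, hg⟩ := QuotientGroup.mk_surjective x.1
      have hgN : g ∈ Subgroup.normalizer ((X : Subgroup G) : Set G) :=
        Sylow.mem_fixedPoints_mul_left_cosets_iff_mem_normalizer.1 (hg ▸ x.2)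
      have hmem : g⁻¹ * c * g ∈ (X : Subgroup G) := by
        have := (Subgroup.mem_normalizer_iff.1 (inv_mem hgN) (c : G)).1 c.2
        rwa [inv_inv] at this
      refine ⟨x.2 c, ?_⟩
      rw [← hg, hh g hmem]
      exact hN g hgN _ rfl
    have hfix : ¬ 2 ∣ Nat.card (MulAction.fixedPoints ↥(X : Subgroup G) (G ⧸ (X : Subgroup G))) := by
      intro hd
      refine X.not_dvd_index ((Nat.modEq_zero_iff_dvd).1 ?_)
      exact ((X.isPGroup'.card_modEq_card_fixedPoints (G ⧸ (X : Subgroup G))).trans
        (Nat.modEq_zero_iff_dvd.2 hd))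
    rw [← hScard, Nat.odd_iff]
    have := hmod
    rw [hN', Nat.ModEq] at this
    omega
  -- the index two subgroup
  set V := MonoidHom.transfer ψ with hV
  have hVc : V (c : G) = -1 := by rw [hV, htr', hodd.neg_one_pow]
  let sq : ↥V.range →* ↥V.range := powMonoidHom 2
  refine ⟨sq.range.comap V.rangeRestrict, ?_⟩
  rw [Subgroup.index_comap_of_surjective _ V.rangeRestrict_surjective]
  have hker : Nat.card ↥sq.ker = 2 := by
    let m : ↥V.range := ⟨-1, (c : G), hVc⟩
    have hm : m ≠ 1 := fun h => hne (congrArg Subtype.val h)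
    have hmem : ∀ x : ↥V.range, x ∈ sq.ker ↔ x = 1 ∨ x = m := by
      intro x
      rw [MonoidHom.mem_ker]
      constructor
      · intro hx
        have hx' : ((x : Fˣ) : F) ^ 2 = 1 := congrArg (fun z : ↥V.range => ((z : Fˣ) : F)) hx
        rcases sq_eq_one_iff.1 hx' with h' | h'
        · exact Or.inl (Subtype.ext (Units.ext h'))
        · exact Or.inr (Subtype.ext (Units.ext (by simpa [m] using h')))
      · rintro (rfl | rfl)
        · simp [sq]
        · exact Subtype.ext (by simp [sq, m])
    rw [show ((sq.ker : Subgroup ↥V.range) : Type _) = {x // x ∈ sq.ker} from rfl,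
      Nat.card_congr (Equiv.subtypeEquivRight hmem), Nat.card_eq_fintype_card]
    rw [Fintype.card_subtype, show (Finset.univ.filter fun x => x = 1 ∨ x = m) = {1, m} by
      ext x; simp, Finset.card_pair (Ne.symm hm)]
  have h1 := Subgroup.card_mul_index sq.ker
  rw [Subgroup.index_ker, hker] at h1
  have h3 := Subgroup.card_mul_index sq.range
  rw [← h1, mul_comm 2] at h3
  exact Nat.eq_of_mul_eq_mul_left Nat.card_pos h3

/-- Two distinct commuting involutions of determinant one have abelian common centralizer. -/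
theorem commute_of_two {A : Type*} [CommGroup A] [Fintype A] (ρ : A →* GL (Fin 3) F)
    (hρ : Function.Injective ρ) (h2 : (2 : F) ≠ 0) (hsq : ∀ a : A, a * a = 1) {x y : A}
    (hx : x ≠ 1) (hy : y ≠ 1) (hxy : x ≠ y) (hdx : (ρ x : Matrix (Fin 3) (Fin 3) F).det = 1)
    (hdy : (ρ y : Matrix (Fin 3) (Fin 3) F).det = 1) {M N : GL (Fin 3) F}
    (hMx : Commute M (ρ x)) (hMy : Commute M (ρ y)) (hNx : Commute N (ρ x)) (hNy : Commute N (ρ y)) :
    Commute M N := by
  classical
  obtain ⟨Q, χ, hχ, hd⟩ := SignDiag.Basic.exists_diagonal ρ h2 hsq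
  have heq := fun {a b : A} => SignDiag.Basic.eq_of_signs ρ hρ hd (a := a) (b := b)
  have hχ1 : ∀ i, χ i 1 = 1 := fun i => by
    have h := hd 1
    rw [map_one, Units.val_one, one_mul] at h
    have h' : Matrix.diagonal (fun i => χ i 1) = (1 : Matrix (Fin 3) (Fin 3) F) :=
      Q.isUnit.mul_left_cancel (by rw [← h, mul_one])
    simpa using congrFun (congrFun h' i) i
  have px := SignDiag.Basic.det_eq_prod ρ hd x
  have py := SignDiag.Basic.det_eq_prod ρ hd y
  rw [hdx, Fin.prod_univ_three] at px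
  rw [hdy, Fin.prod_univ_three] at py
  have hne : (-1 : F) ≠ 1 := fun e => h2 (by linear_combination -e)
  have hne' : (1 : F) ≠ -1 := hne.symm
  have hxs : ¬ ∀ i, χ i x = 1 := fun h => hx (heq fun i => by rw [h i, hχ1])
  have hys : ¬ ∀ i, χ i y = 1 := fun h => hy (heq fun i => by rw [h i, hχ1])
  have hxys : ¬ ∀ i, χ i x = χ i y := fun h => hxy (heq h)
  have hsep : ∀ i j, i ≠ j → χ i x ≠ χ j x ∨ χ i y ≠ χ j y := by
    intro i j hij
    by_contra! hcon
    obtain ⟨e1, e2⟩ := hcon
    simp only [Fin.forall_fin_succ, IsEmpty.forall_iff, and_true, Fin.succ_zero_eq_one,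
      Fin.succ_one_eq_two] at hxs hys hxys
    rcases hχ 0 x with a0 | a0 <;> rcases hχ 1 x with a1 | a1 <;> rcases hχ 2 x with a2 | a2 <;>
      rcases hχ 0 y with b0 | b0 <;> rcases hχ 1 y with b1 | b1 <;> rcases hχ 2 y with b2 | b2 <;>
      simp [a0, a1, a2, b0, b1, b2, hne, hne'] at px py hxs hys hxys <;>
      fin_cases i <;> fin_cases j <;> simp_all
  have hdiag : ∀ K : GL (Fin 3) F, Commute K (ρ x) → Commute K (ρ y) → ∀ i j, i ≠ j →
      (((Q⁻¹ * K * Q : GL (Fin 3) F)) : Matrix (Fin 3) (Fin 3) F) i j = 0 := by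
    intro K hKx hKy i j hij
    set L : Matrix (Fin 3) (Fin 3) F := ((Q⁻¹ * K * Q : GL (Fin 3) F) : Matrix (Fin 3) (Fin 3) F)
    have key : ∀ a, Commute K (ρ a) → L * Matrix.diagonal (fun i => χ i a) =
        Matrix.diagonal (fun i => χ i a) * L := by
      intro a ha
      have e1 : Matrix.diagonal (fun i => χ i a) =
          ((Q⁻¹ * ρ a * Q : GL (Fin 3) F) : Matrix (Fin 3) (Fin 3) F) := by
        rw [Units.val_mul, Units.val_mul, mul_assoc, hd a, ← mul_assoc, Units.inv_mul, one_mul]
      rw [e1, ← Units.val_mul, ← Units.val_mul]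
      congr 1
      calc Q⁻¹ * K * Q * (Q⁻¹ * ρ a * Q) = Q⁻¹ * (K * ρ a) * Q := by group
        _ = Q⁻¹ * ρ a * Q * (Q⁻¹ * K * Q) := by rw [ha.eq]; group
    rcases hsep i j hij with h | h
    · have e := congrFun (congrFun (key x hKx) i) j
      rw [Matrix.mul_diagonal, Matrix.diagonal_mul] at e
      rcases mul_eq_zero.1 (show L i j * (χ j x - χ i x) = 0 by linear_combination e) with e' | e'
      · exact e'
      · exact absurd (sub_eq_zero.1 e').symm h
    · have e := congrFun (congrFun (key y hKy) i) j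
      rw [Matrix.mul_diagonal, Matrix.diagonal_mul] at e
      rcases mul_eq_zero.1 (show L i j * (χ j y - χ i y) = 0 by linear_combination e) with e' | e'
      · exact e'
      · exact absurd (sub_eq_zero.1 e').symm h
  have hc : Commute (Q⁻¹ * M * Q) (Q⁻¹ * N * Q) := by
    apply Units.ext
    set P : Matrix (Fin 3) (Fin 3) F := ((Q⁻¹ * M * Q : GL (Fin 3) F) : Matrix (Fin 3) (Fin 3) F)
    set R : Matrix (Fin 3) (Fin 3) F := ((Q⁻¹ * N * Q : GL (Fin 3) F) : Matrix (Fin 3) (Fin 3) F)
    have hP : P = Matrix.diagonal fun i => P i i := by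
      ext i j
      rcases eq_or_ne i j with rfl | h
      · simp
      · rw [Matrix.diagonal_apply_ne _ h]; exact hdiag M hMx hMy i j h
    have hR : R = Matrix.diagonal fun i => R i i := by
      ext i j
      rcases eq_or_ne i j with rfl | h
      · simp
      · rw [Matrix.diagonal_apply_ne _ h]; exact hdiag N hNx hNy i j h
    show P * R = R * P
    rw [hP, hR, Matrix.diagonal_mul_diagonal, Matrix.diagonal_mul_diagonal]
    exact congrArg _ (funext fun i => mul_comm _ _)
  have := hc.conj Q
  simpa [mul_assoc] using this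

/-- An elementary abelian group of order 8 of 3×3 matrices contains `-1`. -/
theorem exists_neg_one {A : Type*} [CommGroup A] [Fintype A] (ρ : A →* GL (Fin 3) F)
    (hρ : Function.Injective ρ) (h2 : (2 : F) ≠ 0) (hsq : ∀ a : A, a * a = 1)
    (h8 : Nat.card A = 8) : ∃ a : A, (ρ a : Matrix (Fin 3) (Fin 3) F) = -1 := by
  classical
  obtain ⟨Q, χ, hχ, hd⟩ := SignDiag.Basic.exists_diagonal ρ h2 hsq
  let Φ : A → (Fin 3 → Bool) := fun a i => decide (χ i a = 1)
  have hΦ : Function.Injective Φ := fun a b h => SignDiag.Basic.eq_of_signs ρ hρ hd fun i =>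
    SignDiag.Basic.sign_unique h2 (hχ i a) (hχ i b) (by simpa [Φ] using congrFun h i)
  obtain ⟨a, ha⟩ := ((Nat.bijective_iff_injective_and_card Φ).2
    ⟨hΦ, by rw [h8, Nat.card_fun]; simp⟩).2 fun _ => false
  refine ⟨a, ?_⟩
  have hv : (fun i => χ i a) = fun _ => (-1 : F) := funext fun i =>
    (hχ i a).resolve_left (by simpa [Φ] using congrFun ha i)
  have h := hd a
  rw [hv, show Matrix.diagonal (fun _ : Fin 3 => (-1 : F)) = -1 by
    rw [← Matrix.diagonal_one, Matrix.diagonal_neg]] at h
  rw [mul_neg_one, ← neg_one_mul] at h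
  exact Q.isUnit.mul_right_cancel h

/-- The theorem. -/
theorem isMulCommutative (hG : ∀ H : Subgroup G, H.index ≠ 2) (X : Sylow 2 G)
    (hF : Odd (Fintype.card F)) (f : ↥(X : Subgroup G) →* GL (Fin 3) F) (hf : Function.Injective f)
    (E : Subgroup G) (hE : E ≤ (X : Subgroup G)) (hEa : IsElementaryAbelian 2 E)
    (hE8 : Nat.card E = 8) : IsMulCommutative (X : Subgroup G) := by
  classical
  haveI : Fact (Nat.Prime 2) := ⟨Nat.prime_two⟩
  have h2 : (2 : F) ≠ 0 := SignDiag.Basic.two_ne_zero_of_odd hF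
  by_contra hab
  let e : ↥E →* ↥(X : Subgroup G) := Subgroup.inclusion hE
  letI : CommGroup ↥E := { (inferInstance : Group ↥E) with mul_comm := hEa.1.is_comm.comm }
  letI : Fintype ↥E := Fintype.ofFinite _
  obtain ⟨a₀, ha₀⟩ := exists_neg_one (f.comp e) (hf.comp (Subgroup.inclusion_injective hE)) h2
    (fun a => Subtype.ext (by simpa [pow_two] using hEa.2 (a : G) a.2)) hE8
  set c := e a₀ with hc_def
  have hfc : (f c : Matrix (Fin 3) (Fin 3) F) = -1 := ha₀
  have hc2 : c ^ 2 = 1 := Subtype.ext (hEa.2 (a₀ : G) a₀.2)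
  have hcX : ∀ x : ↥(X : Subgroup G), Commute x c := fun x => hf (by
    rw [map_mul, map_mul]
    exact Units.ext (by rw [Units.val_mul, Units.val_mul, hfc, mul_neg_one, neg_one_mul]))
  let ψ : ↥(X : Subgroup G) →* Fˣ := Matrix.GeneralLinearGroup.det.comp f
  have hψc : ψ c = -1 := Units.ext (by
    show (f c : Matrix (Fin 3) (Fin 3) F).det = -1
    rw [hfc, Matrix.det_neg, Matrix.det_one]
    norm_num)
  refine (exists_index_two h2 X ψ c hc2 hcX ?_).elim fun H hH => hG H hH
  intro g hg u hu
  have hconj : ∀ x : ↥(X : Subgroup G), g⁻¹ * (x : G) * g ∈ (X : Subgroup G) := fun x => by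
    have := (Subgroup.mem_normalizer_iff.1 (inv_mem hg) (x : G)).1 x.2
    rwa [inv_inv] at this
  let φ : MulAut ↥(X : Subgroup G) := (X : Subgroup G).normalizerMonoidHom ⟨g⁻¹, inv_mem hg⟩
  have hφc : φ c = u := Subtype.ext (by rw [hu]; show g⁻¹ * (c : G) * g⁻¹⁻¹ = _; rw [inv_inv])
  have hu2 : u ^ 2 = 1 := by rw [← hφc, ← map_pow, hc2, map_one]
  have huX : ∀ x, Commute x u := fun x => by
    obtain ⟨x, rfl⟩ := φ.surjective x
    rw [← hφc]
    exact (hcX x).map φ
  have hsq : (ψ u : F) ^ 2 = 1 := by rw [← Units.val_pow_eq_pow_val, ← map_pow, hu2, map_one]; rfl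
  rcases sq_eq_one_iff.1 hsq with h1 | h1
  swap
  · exact Units.ext (by simpa using h1)
  exfalso
  -- the central involutions
  let W : Subgroup ↥(X : Subgroup G) :=
    { carrier := {w | w ∈ Subgroup.center ↥(X : Subgroup G) ∧ w ^ 2 = 1}
      one_mem' := ⟨one_mem _, one_pow _⟩
      mul_mem' := fun {a b} ⟨ha, ha2⟩ ⟨hb, hb2⟩ => ⟨mul_mem ha hb, by
        rw [(show Commute a b from (Subgroup.mem_center_iff.1 hb a)).mul_pow, ha2, hb2, one_mul]⟩
      inv_mem' := fun ⟨ha, ha2⟩ => ⟨inv_mem ha, by rw [inv_pow, ha2, inv_one]⟩ }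
  letI : CommGroup ↥W := { (inferInstance : Group ↥W) with
    mul_comm := fun a b => Subtype.ext (Subgroup.mem_center_iff.1 b.2.1 (a : ↥(X : Subgroup G))) }
  letI : Fintype ↥W := Fintype.ofFinite _
  have hXne : commutator ↥(X : Subgroup G) ≠ ⊥ := fun h => hab ⟨⟨fun a b =>
    commutatorElement_eq_one_iff_mul_comm.1 (Subgroup.mem_bot.1 (h ▸ (by
      rw [commutator_def]
      exact Subgroup.commutator_mem_commutator (Subgroup.mem_top a) (Subgroup.mem_top b))))⟩⟩
  obtain ⟨⟨w₀, hw₀⟩, hw₀1⟩ : ∃ w : ↥(commutator ↥(X : Subgroup G) ⊓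
      Subgroup.center ↥(X : Subgroup G)), orderOf w = 2 := by
    haveI := (Subgroup.nontrivial_iff_ne_bot _).2
      (PGroups.normal_inf_center_ne_bot X.isPGroup' (commutator ↥(X : Subgroup G)) hXne)
    obtain ⟨k, hk0, hk⟩ := (X.isPGroup'.to_subgroup (commutator ↥(X : Subgroup G) ⊓
      Subgroup.center ↥(X : Subgroup G))).nontrivial_iff_card.1 inferInstance
    exact exists_prime_orderOf_dvd_card' 2 (hk ▸ dvd_pow_self 2 hk0.ne')
  rw [Subgroup.orderOf_mk] at hw₀1
  have hw2 : w₀ ^ 2 = 1 := orderOf_dvd_iff_pow_eq_one.1 (dvd_of_eq hw₀1)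
  have hψw : ψ w₀ = 1 := MonoidHom.mem_ker.1 (Abelianization.commutator_subset_ker ψ hw₀.1)
  have hne1 : ((-1 : Fˣ) : F) ≠ 1 := fun e => h2 (by simp only [Units.val_neg, Units.val_one] at e; linear_combination -e)
  have huw : u = w₀ := by
    by_contra hne
    refine hab ⟨⟨fun a b => hf ?_⟩⟩
    rw [map_mul, map_mul]
    refine (commute_of_two (f.comp W.subtype) (hf.comp W.subtype_injective) h2
      (fun w => Subtype.ext (show (w : ↥(X : Subgroup G)) * w = 1 by rw [← pow_two]; exact w.2.2))
      (x := ⟨u, Subgroup.mem_center_iff.2 fun x => huX x, hu2⟩) (y := ⟨w₀, hw₀.2, hw2⟩)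
      ?_ ?_ (fun h => hne (congrArg Subtype.val h)) ?_ ?_
      ((huX a).map f) ((show Commute a w₀ from Subgroup.mem_center_iff.1 hw₀.2 a).map f)
      ((huX b).map f) ((show Commute b w₀ from Subgroup.mem_center_iff.1 hw₀.2 b).map f)).eq
    · intro h
      have h' : u = 1 := congrArg Subtype.val h
      rw [← hφc, ← φ.map_one] at h'
      have hc1 : c = 1 := φ.injective h'
      rw [hc1, map_one] at hψc
      exact hne1 (by rw [← hψc]; rfl)
    · intro h
      have h' : w₀ = 1 := congrArg Subtype.val h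
      rw [h', orderOf_one] at hw₀1
      exact absurd hw₀1 (by norm_num)
    · exact h1
    · exact congrArg Units.val hψw
  have hcc : c ∈ commutator ↥(X : Subgroup G) := by
    have hu' : u ∈ commutator ↥(X : Subgroup G) := huw ▸ hw₀.1
    have h := Subgroup.characteristic_iff_le_comap.1
      (inferInstance : (commutator ↥(X : Subgroup G)).Characteristic) φ.symm hu'
    rwa [Subgroup.mem_comap, ← hφc, MulEquiv.coe_toMonoidHom, MulEquiv.symm_apply_apply] at h
  have hψ1 : ψ c = 1 := MonoidHom.mem_ker.1 (Abelianization.commutator_subset_ker ψ hcc)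
  rw [hψc] at hψ1
  exact hne1 (congrArg Units.val hψ1)

end Cfsg.Agent.Lib.Tech42.AbelianGL3
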