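import Cfsg.Prelude.Def_Transfer
import Cfsg.Agent.Lib.PGroups.MaxAbelian
import Cfsg.Agent.Lib.PGroups.Omega
import Mathlib.GroupTheory.Nilpotent
import Mathlib.GroupTheory.SpecificGroups.Cyclic
import Mathlib.Algebra.Module.ZMod
import Mathlib.FieldTheory.Finite.Basic
import Mathlib.LinearAlgebra.Eigenspace.Minpoly

/-!
Chief factors: passing to a normal subgroup or quotient; `p`-central groups of small `Ω₁`;
abelian action of exponent dividing `p - 1`.

Owner: helper42.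
-/

set_option autoImplicit false
set_option linter.style.haveILetI false

open Cfsg
open scoped commutatorElement

namespace Cfsg.Agent.Lib.Tech42.ChiefBasic

universe u

variable {G : Type u} [Group G]

/-- `H/K` is a chief factor (the nontriviality apart). -/
def Chief (H K : Subgroup G) : Prop :=
  ∀ L : Subgroup G, L.Normal → K ≤ L → L ≤ H → L = K ∨ L = H

theorem inf_le_or_sup_eq {H K : Subgroup G} [H.Normal] [K.Normal] (hKH : K ≤ H) (hc : Chief H K)
    (N : Subgroup G) [N.Normal] : H ⊓ N ≤ K ∨ (H ⊓ N) ⊔ K = H := by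
  rcases hc ((H ⊓ N) ⊔ K) inferInstance le_sup_right (sup_le inf_le_left hKH) with h | h
  · exact Or.inl (sup_eq_right.1 h)
  · exact Or.inr h

theorem relIndex_inf {H K : Subgroup G} [K.Normal] (hKH : K ≤ H) {N : Subgroup G}
    (h : (H ⊓ N) ⊔ K = H) : (K ⊓ N).relIndex (H ⊓ N) = K.relIndex H := by
  conv_rhs => rw [← h, Subgroup.relIndex_sup_right]
  conv_rhs => rw [← Subgroup.inf_relIndex_right, ← inf_assoc, inf_eq_left.2 hKH]

theorem chief_inf {H K : Subgroup G} [H.Normal] [K.Normal] (hKH : K ≤ H) (hc : Chief H K)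
    {N : Subgroup G} [N.Normal] (h : (H ⊓ N) ⊔ K = H) : Chief (H ⊓ N) (K ⊓ N) := by
  intro L hL hKL hLH
  haveI := hL
  rcases hc (L ⊔ K) inferInstance le_sup_right (sup_le (hLH.trans inf_le_left) hKH) with h' | h'
  · exact Or.inl (le_antisymm (le_inf (sup_eq_right.1 h') (hLH.trans inf_le_right)) hKL)
  · refine Or.inr (le_antisymm hLH fun y hy => ?_)
    obtain ⟨l, hl, k, hk, rfl⟩ := Subgroup.mem_sup_of_normal_right.1 (h'.symm ▸ hy.1 : y ∈ L ⊔ K)
    refine mul_mem hl (hKL (Subgroup.mem_inf.2 ⟨hk, ?_⟩))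
    simpa [← mul_assoc] using mul_mem (inv_mem (Subgroup.mem_inf.1 (hLH hl)).2) (Subgroup.mem_inf.1 hy).2

theorem sup_inf_eq {H K N : Subgroup G} [N.Normal] (hKH : K ≤ H) (hN : H ⊓ N ≤ K) :
    (K ⊔ N) ⊓ H = K := by
  refine le_antisymm (fun x hx => ?_) (le_inf le_sup_left hKH)
  obtain ⟨k, hk, m, hm, rfl⟩ := Subgroup.mem_sup_of_normal_right.1 hx.1
  exact mul_mem hk (hN ⟨by simpa [← mul_assoc] using mul_mem (inv_mem (hKH hk)) hx.2, hm⟩)

theorem relIndex_quot {H K : Subgroup G} (hKH : K ≤ H) {N : Subgroup G} [N.Normal]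
    (hN : H ⊓ N ≤ K) :
    (K.map (QuotientGroup.mk' N)).relIndex (H.map (QuotientGroup.mk' N)) = K.relIndex H := by
  rw [← Subgroup.relIndex_comap, Subgroup.comap_map_eq, QuotientGroup.ker_mk',
    ← Subgroup.inf_relIndex_right, sup_inf_eq hKH hN]

theorem chief_quot {H K : Subgroup G} [H.Normal] [K.Normal] (hc : Chief H K)
    {N : Subgroup G} [N.Normal] (hKH : K ≤ H) :
    Chief (H.map (QuotientGroup.mk' N)) (K.map (QuotientGroup.mk' N)) := by
  intro L hL hKL hLH
  haveI := hL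
  have hmap : (L.comap (QuotientGroup.mk' N) ⊓ H).map (QuotientGroup.mk' N) = L := by
    refine le_antisymm ((Subgroup.map_mono inf_le_left).trans (Subgroup.map_comap_le _ _)) ?_
    intro y hy
    obtain ⟨h, hh, rfl⟩ := hLH hy
    exact ⟨h, ⟨hy, hh⟩, rfl⟩
  rcases hc (L.comap (QuotientGroup.mk' N) ⊓ H) inferInstance
    (le_inf (Subgroup.map_le_iff_le_comap.1 hKL) hKH) inf_le_right with h | h
  · exact Or.inl (by rw [← hmap, h])
  · exact Or.inr (by rw [← hmap, h])

variable {p : ℕ} [hp : Fact p.Prime]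

/-- In a `p`-group all whose elements of order `p` are central, `⁅y, x⁆ ^ p = 1` if `x ^ p²= 1`. -/
theorem commutator_pow_eq_one [Finite G] (hp2 : p ≠ 2) {R : Subgroup G} (hR : IsPGroup p ↥R)
    (hcent : ∀ z ∈ R, z ^ p = 1 → ∀ r ∈ R, Commute r z) :
    ∀ x ∈ R, ∀ y ∈ R, x ^ p ^ 2 = 1 → ⁅y, x⁆ ^ p = 1 := by
  suffices h : ∀ (n : ℕ) (K : Subgroup G), Nat.card ↥K ≤ n → K ≤ R → ∀ x ∈ K, ∀ y ∈ K,
      x ^ p ^ 2 = 1 → ⁅y, x⁆ ^ p = 1 from fun x hx y hy => h _ R le_rfl le_rfl x hx y hy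
  intro n
  induction n with
  | zero => intro K hK; exact absurd hK (not_le.2 Nat.card_pos)
  | succ n ih =>
    intro K hKn hKR x hx y hy hxp
    by_cases htop : Subgroup.zpowers (⟨x, hx⟩ : ↥K) = ⊤
    · obtain ⟨i, hi⟩ := Subgroup.mem_zpowers_iff.1
        (htop.symm ▸ Subgroup.mem_top _ : (⟨y, hy⟩ : ↥K) ∈ Subgroup.zpowers (⟨x, hx⟩ : ↥K))
      have hy' : x ^ i = y := congrArg Subtype.val hi
      rw [commutatorElement_eq_one_iff_mul_comm.2 (hy' ▸ (Commute.self_zpow x i).symm.eq), one_pow]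
    haveI : Group.IsNilpotent ↥K := (hR.to_le hKR).isNilpotent
    obtain ⟨M, hM, hxM⟩ := (eq_top_or_exists_le_coatom (Subgroup.zpowers (⟨x, hx⟩ : ↥K))).resolve_left htop
    haveI hMn : M.Normal :=
      Subgroup.NormalizerCondition.normal_of_coatom M Group.normalizerCondition_of_isNilpotent hM
    have hMlt : Nat.card ↥(M.map K.subtype) < Nat.card ↥K := by
      rw [Subgroup.card_map_of_injective K.subtype_injective]
      exact lt_of_le_of_ne (Subgroup.card_le_card_group M) fun h =>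
        hM.1 (Subgroup.eq_top_of_card_eq M h)
    have hxM' : (⟨x, hx⟩ : ↥K) ∈ M := hxM (Subgroup.mem_zpowers _)
    have hzM : y * x * y⁻¹ ∈ M.map K.subtype :=
      ⟨⟨y, hy⟩ * ⟨x, hx⟩ * ⟨y, hy⟩⁻¹, hMn.conj_mem _ hxM' _, rfl⟩
    set z := y * x * y⁻¹ with hz
    have hzK : z ∈ K := mul_mem (mul_mem hy hx) (inv_mem hy)
    have hc : ⁅z, x⁆ ^ p = 1 := ih (M.map K.subtype) (by omega)
      ((Subgroup.map_subtype_le M).trans hKR) x ⟨⟨x, hx⟩, hxM', rfl⟩ z hzM hxp
    have hcR : ⁅z, x⁆ ∈ R := by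
      rw [commutatorElement_def]
      exact mul_mem (mul_mem (mul_mem (hKR hzK) (hKR hx)) (inv_mem (hKR hzK))) (inv_mem (hKR hx))
    have hcx : Commute x ⁅z, x⁆ := hcent _ hcR hc x (hKR hx)
    have hflip : ⁅x⁻¹, z⁆ = ⁅z, x⁆ := by
      calc ⁅x⁻¹, z⁆ = x⁻¹ * ⁅z, x⁆ * x := by simp only [commutatorElement_def]; group
        _ = ⁅z, x⁆ := by rw [hcx.inv_left.eq, inv_mul_cancel_right]
    have hxpp : (x ^ p) ^ p = 1 := by rw [← pow_mul, ← pow_two, hxp]
    have hxc : Commute y (x ^ p) := hcent _ (pow_mem (hKR hx) p) hxpp y (hKR hy)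
    have hcomm : ⁅y, x⁆ = z * x⁻¹ := by rw [commutatorElement_def, hz]
    rw [hcomm, PGroups.mul_pow_of_central_commutator z x⁻¹ (hflip ▸ hcent _ hcR hc z (hKR hzK))
      (hflip ▸ hcx.inv_left), hflip, hz, conj_pow, hxc.eq, mul_inv_cancel_right, inv_pow,
      mul_inv_cancel, one_mul]
    obtain ⟨k, hk⟩ : p ∣ p.choose 2 :=
      hp.out.dvd_choose_self two_ne_zero (lt_of_le_of_ne hp.out.two_le (Ne.symm hp2))
    rw [hk, pow_mul, hc, one_pow]

/-- Chief factors inside a normal `p`-group with central elements of order `p` and `|Ω₁| ≤ p^k`. -/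
theorem relIndex_le_of_pCentral (hp2 : p ≠ 2) (k : ℕ) : ∀ (n : ℕ) (G : Type u) [Group G] [Finite G]
    (R H K : Subgroup G) [R.Normal] [H.Normal] [K.Normal], Nat.card ↥R ≤ n → IsPGroup p ↥R →
      (∀ z ∈ R, z ^ p = 1 → ∀ r ∈ R, Commute r z) →
      (∀ S : Subgroup G, S ≤ R → (∀ x ∈ S, x ^ p = 1) → Nat.card ↥S ≤ p ^ k) →
      H ≤ R → K ≤ H → Chief H K → K.relIndex H ≤ p ^ k := by
  intro n
  induction n with
  | zero => intro G _ _ R H K _ _ _ h; exact absurd h (not_le.2 Nat.card_pos)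
  | succ n ih =>
    intro G _ _ R H K _ _ _ hRn hR hcent hsmall hHR hKH hc
    by_cases hR1 : R = ⊥
    · obtain rfl : H = ⊥ := le_bot_iff.1 (hR1 ▸ hHR)
      rw [Subgroup.relIndex_bot_right]
      exact Nat.one_le_pow _ _ hp.out.pos
    let Ω : Subgroup G :=
      { carrier := {x | x ∈ R ∧ x ^ p = 1}
        one_mem' := ⟨one_mem _, one_pow _⟩
        mul_mem' := fun {x y} ⟨hx, hxp⟩ ⟨hy, hyp⟩ => ⟨mul_mem hx hy, by
          rw [(hcent y hy hyp x hx).mul_pow, hxp, hyp, one_mul]⟩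
        inv_mem' := fun ⟨hx, hxp⟩ => ⟨inv_mem hx, by rw [inv_pow, hxp, inv_one]⟩ }
    haveI : Ω.Normal := ⟨fun x hx g => ⟨Subgroup.Normal.conj_mem ‹R.Normal› x hx.1 g, by
      rw [conj_pow, hx.2, mul_one, mul_inv_cancel]⟩⟩
    have hΩcard : Nat.card ↥Ω ≤ p ^ k := hsmall Ω (fun x hx => hx.1) (fun x hx => hx.2)
    rcases inf_le_or_sup_eq hKH hc Ω with h | h
    swap
    · rw [← relIndex_inf hKH h]
      refine le_trans ?_ hΩcard
      exact (Nat.le_of_dvd Nat.card_pos (Subgroup.index_dvd_card _)).trans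
        (Subgroup.card_le_of_le inf_le_right)
    set π := QuotientGroup.mk' Ω with hπ
    have hπs : Function.Surjective π := QuotientGroup.mk'_surjective Ω
    haveI : (R.map π).Normal := Subgroup.Normal.map ‹R.Normal› π hπs
    haveI : (H.map π).Normal := Subgroup.Normal.map ‹H.Normal› π hπs
    haveI : (K.map π).Normal := Subgroup.Normal.map ‹K.Normal› π hπs
    have hΩ1 : 1 < Nat.card ↥Ω := by
      haveI : Nontrivial ↥R := (Subgroup.nontrivial_iff_ne_bot R).2 hR1
      obtain ⟨m, hm0, hm⟩ := hR.nontrivial_iff_card.1 inferInstance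
      obtain ⟨⟨x, hx⟩, hxo⟩ := exists_prime_orderOf_dvd_card' p (hm ▸ dvd_pow_self p hm0.ne')
      rw [Subgroup.orderOf_mk] at hxo
      refine Finite.one_lt_card_iff_nontrivial.2 ⟨⟨⟨x, hx, by rw [← hxo, pow_orderOf_eq_one]⟩, 1,
        fun h => ?_⟩⟩
      have : x = 1 := congrArg Subtype.val h
      rw [this, orderOf_one] at hxo
      exact hp.out.ne_one hxo.symm
    have hlift : ∀ z ∈ R, π z ^ p = 1 → z ^ p ^ 2 = 1 := fun z hz h => by
      rw [← map_pow, hπ, QuotientGroup.mk'_apply, QuotientGroup.eq_one_iff] at h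
      rw [pow_two, pow_mul]
      exact h.2
    refine le_trans (le_of_eq (relIndex_quot (N := Ω) hKH h).symm)
      (ih (G ⧸ Ω) (R.map π) (H.map π) (K.map π) ?_ (hR.map π) ?_ ?_ (Subgroup.map_mono hHR)
        (Subgroup.map_mono hKH) (chief_quot hc hKH))
    · have h1 : Nat.card ↥(R.map π) * Nat.card ↥Ω = Nat.card ↥R := by
        have := Subgroup.relIndex_mul_relIndex ⊥ Ω R bot_le (fun x hx => hx.1)
        rw [Subgroup.relIndex_bot_left, Subgroup.relIndex_bot_left] at this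
        rw [← this, mul_comm]
        congr 1
        rw [← Subgroup.relIndex_bot_left, ← Subgroup.map_bot π, Subgroup.relIndex_map_map,
          QuotientGroup.ker_mk', bot_sup_eq, sup_eq_left.2 (fun x hx => hx.1 : Ω ≤ R)]
      have h2 : Nat.card ↥(R.map π) < Nat.card ↥R := by
        rw [← h1]
        exact lt_mul_of_one_lt_right Nat.card_pos hΩ1
      omega
    · rintro _ ⟨z, hz, rfl⟩ hzp _ ⟨r, hr, rfl⟩
      refine commutatorElement_eq_one_iff_mul_comm.1 ?_
      rw [← map_commutatorElement, hπ, QuotientGroup.mk'_apply, QuotientGroup.eq_one_iff]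
      exact ⟨(by rw [commutatorElement_def]; exact (mul_mem (mul_mem (mul_mem hr hz) (inv_mem hr))
        (inv_mem hz))), commutator_pow_eq_one hp2 hR hcent z hz r hr (hlift z hz hzp)⟩
    · intro S hS hSexp
      have hch : ∀ s : ↥S, ∃ z ∈ R, π z = s := fun s => hS s.2
      choose f hfR hfs using hch
      have hfp : ∀ s : ↥S, f s ^ p ^ 2 = 1 := fun s =>
        hlift _ (hfR s) (by rw [hfs]; exact hSexp _ s.2)
      refine le_trans ?_ hΩcard
      refine Nat.card_le_card_of_injective (fun s : ↥S => (⟨f s ^ p,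
        ⟨pow_mem (hfR s) p, by rw [← pow_mul, ← pow_two, hfp]⟩⟩ : ↥Ω)) ?_
      intro s t hst
      have hst' : f s ^ p = f t ^ p := congrArg Subtype.val hst
      apply Subtype.ext
      rw [← hfs, ← hfs, hπ, QuotientGroup.mk'_apply, QuotientGroup.mk'_apply, QuotientGroup.eq]
      refine ⟨mul_mem (inv_mem (hfR s)) (hfR t), ?_⟩
      have hc1 : ⁅f t, (f s)⁻¹⁆ ^ p = 1 :=
        commutator_pow_eq_one hp2 hR hcent _ (inv_mem (hfR s)) _ (hfR t)
          (by rw [inv_pow, hfp, inv_one])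
      have hcR : ⁅f t, (f s)⁻¹⁆ ∈ R := by
        rw [commutatorElement_def]
        exact mul_mem (mul_mem (mul_mem (hfR t) (inv_mem (hfR s))) (inv_mem (hfR t)))
          (inv_mem (inv_mem (hfR s)))
      rw [PGroups.mul_pow_of_central_commutator _ _ (hcent _ hcR hc1 _ (inv_mem (hfR s)))
        (hcent _ hcR hc1 _ (hfR t)), inv_pow, hst', inv_mul_cancel, one_mul]
      obtain ⟨j, hj⟩ : p ∣ p.choose 2 :=
        hp.out.dvd_choose_self two_ne_zero (lt_of_le_of_ne hp.out.two_le (Ne.symm hp2))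
      rw [hj, pow_mul, hc1, one_pow]

/-- A linear map fixed by its `p`th power has an eigenvector. -/
theorem exists_eigen_add {W : Type u} [AddCommGroup W] [Module (ZMod p) W] [Finite W] [Nontrivial W]
    (f : Module.End (ZMod p) W) (hfp' : ∀ x, (⇑f)^[p] x = f x) : ∃ x : W, x ≠ 0 ∧ ∃ c : ℕ, f x = c • x := by
  haveI : FiniteDimensional (ZMod p) W := Module.Finite.of_finite
  have hfp : f ^ p = f := LinearMap.ext fun x => by rw [Module.End.pow_apply]; exact hfp' x
  have hdvd : minpoly (ZMod p) f ∣ (Polynomial.X ^ p - Polynomial.X : Polynomial (ZMod p)) := by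
    apply minpoly.dvd
    simp [hfp]
  have hsplit : (Polynomial.X ^ p - Polynomial.X : Polynomial (ZMod p)).Splits := by
    rw [Polynomial.splits_iff_card_roots, FiniteField.X_pow_card_sub_X_natDegree_eq _ hp.out.one_lt]
    have h := FiniteField.roots_X_pow_card_sub_X (ZMod p)
    rw [ZMod.card] at h
    rw [h, Finset.card_val, Finset.card_univ, ZMod.card]
  have hnz : (Polynomial.X ^ p - Polynomial.X : Polynomial (ZMod p)) ≠ 0 :=
    FiniteField.X_pow_card_sub_X_ne_zero _ hp.out.one_lt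
  have hint : IsIntegral (ZMod p) f := IsIntegral.of_finite _ f
  obtain ⟨c, hc⟩ := (hsplit.of_dvd hnz hdvd).exists_eval_eq_zero
    (minpoly.degree_pos hint).ne'
  obtain ⟨x, hx⟩ := (Module.End.hasEigenvalue_of_isRoot (f := f) hc).exists_hasEigenvector
  refine ⟨x, hx.2, c.val, ?_⟩
  have h1 : f x = c • x := Module.End.mem_eigenspace_iff.1 hx.1
  rwa [← ZMod.natCast_zmod_val c, Nat.cast_smul_eq_nsmul] at h1

theorem exists_eigen_hom {W : Type u} [AddCommGroup W] [Finite W] [Nontrivial W]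
    (hW : ∀ x : W, p • x = 0) (g : W →+ W) (hg : ∀ x, (⇑g)^[p] x = g x) :
    ∃ x : W, x ≠ 0 ∧ ∃ c : ℕ, g x = c • x := by
  letI : Module (ZMod p) W := AddCommGroup.zmodModule hW
  exact exists_eigen_add (p := p) (AddMonoidHom.toZModLinearMap p g) hg

/-- An automorphism of order dividing `p - 1` of a group of exponent `p` has an eigenvector. -/
theorem exists_eigen {V : Type u} [CommGroup V] [Finite V] [Nontrivial V]
    (hV : ∀ v : V, v ^ p = 1) (a : MulAut V) (ha : a ^ (p - 1) = 1) :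
    ∃ v : V, v ≠ 1 ∧ ∃ c : ℕ, a v = v ^ c := by
  let g : Additive V →+ Additive V := MonoidHom.toAdditive a.toMonoidHom
  have hap : a ^ p = a := by
    conv_lhs => rw [show p = p - 1 + 1 by have := hp.out.two_le; omega, pow_succ, ha, one_mul]
  have hf : ∀ (i : ℕ) (x : Additive V), (⇑g)^[i] x = Additive.ofMul ((a ^ i) (Additive.toMul x)) := by
    intro i
    induction i with
    | zero => intro x; rfl
    | succ i ihi =>
      intro x
      rw [Function.iterate_succ_apply', ihi, pow_succ', MulAut.mul_apply]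
      rfl
  obtain ⟨x, hx, c, hc⟩ := exists_eigen_hom (p := p) (fun x : Additive V => hV (Additive.toMul x)) g
    fun x => by rw [hf, hap]; rfl
  exact ⟨Additive.toMul x, hx, c, congrArg Additive.toMul hc⟩

/-- A minimal normal `p`-subgroup on which `G` acts as an abelian group of exponent dividing
`p - 1` has order `p`. -/
theorem card_eq_of_abelian_action [Finite G] {V : Subgroup G} [V.Normal] (hV : IsPGroup p ↥V)
    (hV1 : V ≠ ⊥) (hmin : ∀ L : Subgroup G, L.Normal → L ≤ V → L = ⊥ ∨ L = V)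
    (hab : ∀ g h : G, ∀ v ∈ V, Commute ⁅g, h⁆ v) (hexp : ∀ g : G, ∀ v ∈ V, Commute (g ^ (p - 1)) v) :
    Nat.card ↥V = p := by
  haveI : Nontrivial ↥V := (Subgroup.nontrivial_iff_ne_bot V).2 hV1
  have hcc : ∀ a ∈ V, ∀ b ∈ V, Commute a b := by
    rcases hmin ((Subgroup.center ↥V).map V.subtype) inferInstance (Subgroup.map_subtype_le _)
      with h | h
    · haveI := hV.center_nontrivial
      rw [Subgroup.map_eq_bot_iff_of_injective _ V.subtype_injective] at h
      exact absurd h ((Subgroup.nontrivial_iff_ne_bot _).1 inferInstance)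
    · intro a ha b hb
      obtain ⟨z, hz, rfl⟩ := (h.symm ▸ ha : a ∈ (Subgroup.center ↥V).map V.subtype)
      exact (congrArg Subtype.val (Subgroup.mem_center_iff.1 hz ⟨b, hb⟩)).symm
  obtain ⟨m, hm0, hm⟩ := hV.nontrivial_iff_card.1 inferInstance
  obtain ⟨⟨v₀, hv₀⟩, hv₀o⟩ := exists_prime_orderOf_dvd_card' p (hm ▸ dvd_pow_self p hm0.ne')
  rw [Subgroup.orderOf_mk] at hv₀o
  let V₁ : Subgroup G :=
    { carrier := {x | x ∈ V ∧ x ^ p = 1}
      one_mem' := ⟨one_mem _, one_pow _⟩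
      mul_mem' := fun {x y} ⟨hx, hxp⟩ ⟨hy, hyp⟩ => ⟨mul_mem hx hy, by
        rw [(hcc x hx y hy).mul_pow, hxp, hyp, one_mul]⟩
      inv_mem' := fun ⟨hx, hxp⟩ => ⟨inv_mem hx, by rw [inv_pow, hxp, inv_one]⟩ }
  have hVp : ∀ v ∈ V, v ^ p = 1 := by
    rcases hmin V₁ ⟨fun x hx g => ⟨Subgroup.Normal.conj_mem ‹V.Normal› x hx.1 g, by
      rw [conj_pow, hx.2, mul_one, mul_inv_cancel]⟩⟩ (fun x hx => hx.1) with h | h
    · have : v₀ ∈ V₁ := ⟨hv₀, by rw [← hv₀o, pow_orderOf_eq_one]⟩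
      rw [h, Subgroup.mem_bot] at this
      rw [this, orderOf_one] at hv₀o
      exact absurd hv₀o.symm hp.out.ne_one
    · exact fun v hv => (h.symm ▸ hv : v ∈ V₁).2
  have hscal : ∀ g : G, ∃ c : ℕ, ∀ v ∈ V, g * v * g⁻¹ = v ^ c := by
    intro g
    letI : CommGroup ↥V := { (inferInstance : Group ↥V) with
      mul_comm := fun a b => Subtype.ext (hcc a a.2 b b.2).eq }
    obtain ⟨⟨v, hv⟩, hv1, c, hc⟩ := exists_eigen (V := ↥V) (fun v => Subtype.ext (hVp v v.2))
      (MulAut.conjNormal g : MulAut ↥V) (by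
        rw [← map_pow]
        ext ⟨v, hv⟩
        rw [MulAut.conjNormal_apply, MulAut.one_apply]
        show g ^ (p - 1) * v * (g ^ (p - 1))⁻¹ = v
        rw [(hexp g v hv).eq, mul_inv_cancel_right])
    have hc' : g * v * g⁻¹ = v ^ c := by
      have := congrArg Subtype.val hc
      rwa [MulAut.conjNormal_apply, Subgroup.coe_pow] at this
    refine ⟨c, ?_⟩
    let E : Subgroup G :=
      { carrier := {x | x ∈ V ∧ g * x * g⁻¹ = x ^ c}
        one_mem' := ⟨one_mem _, by simp⟩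
        mul_mem' := fun {x y} ⟨hx, hxe⟩ ⟨hy, hye⟩ => ⟨mul_mem hx hy, by
          rw [(hcc x hx y hy).mul_pow, ← hxe, ← hye]; group⟩
        inv_mem' := fun {x} ⟨hx, hxe⟩ => ⟨inv_mem hx, by rw [inv_pow, ← hxe]; group⟩ }
    have hE : E.Normal := by
      refine ⟨fun x hx k => ⟨Subgroup.Normal.conj_mem ‹V.Normal› x hx.1 k, ?_⟩⟩
      have h2 : g * (k * x * k⁻¹) * g⁻¹ =
          ⁅g, k⁆ * (k * (g * x * g⁻¹) * k⁻¹) * ⁅g, k⁆⁻¹ := by
        simp only [commutatorElement_def]; group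
      rw [h2, (hab g k _ (Subgroup.Normal.conj_mem ‹V.Normal› _
          (Subgroup.Normal.conj_mem ‹V.Normal› _ hx.1 _) _)).eq, mul_inv_cancel_right, hx.2, conj_pow]
    rcases hmin E hE (fun x hx => hx.1) with h | h
    · exfalso
      have : v ∈ E := ⟨hv, hc'⟩
      rw [h, Subgroup.mem_bot] at this
      exact hv1 (Subtype.ext this)
    · exact fun x hx => (h.symm ▸ hx : x ∈ E).2
  have hZn : (Subgroup.zpowers v₀).Normal := by
    refine ⟨fun x hx g => ?_⟩
    obtain ⟨c, hc⟩ := hscal g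
    rw [hc x (Subgroup.zpowers_le.2 hv₀ hx)]
    exact pow_mem hx c
  rcases hmin _ hZn (Subgroup.zpowers_le.2 hv₀) with h | h
  · rw [Subgroup.zpowers_eq_bot] at h
    rw [h, orderOf_one] at hv₀o
    exact absurd hv₀o.symm hp.out.ne_one
  · rw [← h, Nat.card_zpowers, hv₀o]

end Cfsg.Agent.Lib.Tech42.ChiefBasic
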