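import Cfsg.Prelude.Def_Local
import Cfsg.Prelude.Def_CaseTheorems
import Cfsg.Agent.Lib.Tech42.ChiefBasic
import Cfsg.Agent.Lib.Tech42.SymplecticType
import Cfsg.Agent.Lib.PGroupTheory.RankTwo
import Cfsg.Agent.Lib.PGroupTheory.RankTwoLarge
import Cfsg.Agent.Lib.PSolvable.HallHigman
import Cfsg.Agent.Lib.OddOrder.RankTwoGroup

/-!
In a `p`-soluble group of `p`-rank at most two (`p` odd) the `p`-chief factors have order at
most `p²`.

Owner: helper42.
-/

set_option autoImplicit false
set_option linter.style.haveILetI false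

open Cfsg
open scoped commutatorElement

namespace Cfsg.Agent.Lib.Tech42.ChiefRankTwo

open ChiefBasic SymplecticType

universe u

variable {G : Type u} [Group G] [Finite G] {p : ℕ} [hp : Fact p.Prime]

omit hp in
/-- An element of order prime to `p` stabilizing a short chain in a `p`-group acts trivially. -/
theorem commute_of_stab {g m : G} (hg : (orderOf g).Coprime p)
    (hc : Commute g ⁅g, m⁆) {j : ℕ} (hz : ⁅g, m⁆ ^ p ^ j = 1) : Commute g m := by
  have key : ∀ k : ℕ, g ^ k * m * (g ^ k)⁻¹ = ⁅g, m⁆ ^ k * m := by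
    intro k
    induction k with
    | zero => simp
    | succ k ih =>
      calc g ^ (k + 1) * m * (g ^ (k + 1))⁻¹ = g * (g ^ k * m * (g ^ k)⁻¹) * g⁻¹ := by
            rw [pow_succ']; group
        _ = g * ⁅g, m⁆ ^ k * g⁻¹ * (g * m * g⁻¹) := by rw [ih]; group
        _ = ⁅g, m⁆ ^ k * (⁅g, m⁆ * m) := by
            rw [(hc.pow_right k).eq, mul_inv_cancel_right]
            simp only [commutatorElement_def]; group
        _ = _ := by rw [pow_succ, mul_assoc]
  have h := key (orderOf g)
  rw [pow_orderOf_eq_one, one_mul, inv_one, mul_one, eq_comm, mul_eq_right] at h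
  have h1 : orderOf ⁅g, m⁆ = 1 := Nat.eq_one_of_dvd_coprimes (hg.pow_right j)
    (orderOf_dvd_of_pow_eq_one h) (orderOf_dvd_of_pow_eq_one hz)
  exact commutatorElement_eq_one_iff_mul_comm.1 (orderOf_eq_one_iff.1 h1)

/-- The subgroup generated by commutators and `(p-1)`-st powers. -/
def powSub (p : ℕ) (G : Type u) [Group G] : Subgroup G :=
  commutator G ⊔ Subgroup.closure (Set.range fun g : G => g ^ (p - 1))

omit [Finite G] hp in
theorem powSub_normal : (powSub p G).Normal := by
  refine ⟨fun x hx g => ?_⟩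
  have h : ⁅g, x⁆ ∈ powSub p G := Subgroup.mem_sup_left (by
    rw [commutator_def]; exact Subgroup.commutator_mem_commutator (Subgroup.mem_top g) (Subgroup.mem_top x))
  simpa [commutatorElement_def, mul_assoc] using mul_mem h hx

/-- `powSub` acts trivially on a normal section of order `p`. -/
theorem commutator_mem_of_relIndex {M' M : Subgroup G} [M'.Normal] [M.Normal] (hle : M' ≤ M)
    (hidx : M'.relIndex M = p) {g : G} (hg : g ∈ powSub p G) {m : G} (hm : m ∈ M) :
    ⁅g, m⁆ ∈ M' := by
  set π := QuotientGroup.mk' M' with hπ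
  have hMb : (M.map π).Normal := Subgroup.Normal.map ‹M.Normal› π (QuotientGroup.mk'_surjective M')
  haveI := hMb
  have hcard : Nat.card ↥(M.map π) = p := by
    rw [← hidx, ← relIndex_quot (N := M') hle (inf_le_right), ← Subgroup.relIndex_bot_left]
    congr 1
    rw [eq_comm, Subgroup.map_eq_bot_iff, QuotientGroup.ker_mk']
  haveI : IsCyclic ↥(M.map π) := isCyclic_of_prime_card hcard
  let ψ : G →* MulAut ↥(M.map π) := (MulAut.conjNormal (H := M.map π)).comp π
  have hcomm : ∀ a b : MulAut ↥(M.map π), a * b = b * a := fun a b =>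
    (IsCyclic.mulAutMulEquiv ↥(M.map π)).injective (by rw [map_mul, map_mul, mul_comm])
  have hker : powSub p G ≤ ψ.ker := by
    refine sup_le ?_ ((Subgroup.closure_le _).2 ?_)
    · rw [commutator_def, Subgroup.commutator_le]
      intro a _ b _
      rw [MonoidHom.mem_ker, map_commutatorElement, commutatorElement_eq_one_iff_mul_comm]
      exact hcomm _ _
    · rintro _ ⟨a, rfl⟩
      rw [SetLike.mem_coe, MonoidHom.mem_ker, map_pow]
      have h : Nat.card (MulAut ↥(M.map π)) = p - 1 := by
        rw [IsCyclic.card_mulAut, hcard, Nat.totient_prime hp.out]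
      rw [← h]
      exact pow_card_eq_one'
  have h := congrArg (fun f : MulAut ↥(M.map π) => ((f ⟨π m, ⟨m, hm, rfl⟩⟩ : ↥(M.map π)) : G ⧸ M'))
    (MonoidHom.mem_ker.1 (hker hg))
  replace h : π g * π m * (π g)⁻¹ = π m := by
    simpa [ψ, MulAut.conjNormal_apply] using h
  rw [← QuotientGroup.eq_one_iff (N := M'), ← QuotientGroup.mk'_apply, ← hπ, map_commutatorElement,
    commutatorElement_def, h, mul_inv_cancel]

/-- A minimal normal subgroup inside a normal `p`-subgroup is centralized by it. -/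
theorem le_centralizer_of_minimal {V R : Subgroup G} [V.Normal] [R.Normal] (hR : IsPGroup p ↥R)
    (hVR : V ≤ R) (hmin : ∀ L : Subgroup G, L.Normal → L ≤ V → L = ⊥ ∨ L = V) :
    V ≤ Subgroup.centralizer (R : Set G) := by
  by_cases hV : V = ⊥
  · rw [hV]; exact bot_le
  haveI : (Subgroup.centralizer (R : Set G)).Normal := Subgroup.normal_centralizer
  rcases hmin (V ⊓ Subgroup.centralizer (R : Set G)) inferInstance inf_le_left with h | h
  · exfalso
    haveI : (V.subgroupOf R).Normal := inferInstance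
    have hne : V.subgroupOf R ≠ ⊥ := fun h' => hV (by
      rw [Subgroup.subgroupOf_eq_bot, disjoint_iff, inf_eq_left.2 hVR] at h'
      exact h')
    obtain ⟨⟨z, hz⟩, hzm, hz1⟩ := (Subgroup.bot_or_exists_ne_one _).resolve_left
      (PGroups.normal_inf_center_ne_bot hR (V.subgroupOf R) hne)
    refine hz1 (Subtype.ext (Subgroup.mem_bot.1 (h ▸ Subgroup.mem_inf.2 ⟨hzm.1, ?_⟩)))
    exact Subgroup.mem_centralizer_iff.2 fun r hr =>
      congrArg Subtype.val (Subgroup.mem_center_iff.1 hzm.2 ⟨r, hr⟩)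
  · exact h ▸ inf_le_right

/-- If a normal `p`-subgroup contains the commutators and the `(p-1)`-st powers, the chief factors
inside it have order `p`. -/
theorem relIndex_eq_of_powSub_le {R H K : Subgroup G} [R.Normal] [H.Normal] [K.Normal]
    (hR : IsPGroup p ↥R) (hW : powSub p G ≤ R) (hHR : H ≤ R) (hKH : K < H) (hc : Chief H K) :
    K.relIndex H = p := by
  set π := QuotientGroup.mk' K with hπ
  have hs : Function.Surjective π := QuotientGroup.mk'_surjective K
  haveI : (H.map π).Normal := Subgroup.Normal.map ‹H.Normal› π hs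
  haveI : (R.map π).Normal := Subgroup.Normal.map ‹R.Normal› π hs
  have hK : K.map π = ⊥ := by rw [Subgroup.map_eq_bot_iff, hπ, QuotientGroup.ker_mk']
  have hne : H.map π ≠ ⊥ := by
    rw [ne_eq, Subgroup.map_eq_bot_iff, hπ, QuotientGroup.ker_mk']
    exact not_le_of_gt hKH
  have hmin : ∀ L : Subgroup (G ⧸ K), L.Normal → L ≤ H.map π → L = ⊥ ∨ L = H.map π := fun L hL hle =>
    hK ▸ chief_quot hc hKH.le L hL (by rw [hK]; exact bot_le) hle
  have hcent := le_centralizer_of_minimal (hR.map π) (Subgroup.map_mono hHR) hmin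
  have hV := card_eq_of_abelian_action ((hR.to_le hHR).map π) hne hmin ?_ ?_
  · rw [← relIndex_quot (N := K) hKH.le inf_le_right, ← hπ, hK, Subgroup.relIndex_bot_left, hV]
  · intro a b v hv
    obtain ⟨a, rfl⟩ := hs a
    obtain ⟨b, rfl⟩ := hs b
    rw [← map_commutatorElement]
    refine Subgroup.mem_centralizer_iff.1 (hcent hv) _ ⟨_, hW (Subgroup.mem_sup_left ?_), rfl⟩
    rw [commutator_def]
    exact Subgroup.commutator_mem_commutator (Subgroup.mem_top a) (Subgroup.mem_top b)
  · intro a v hv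
    obtain ⟨a, rfl⟩ := hs a
    rw [← map_pow]
    exact Subgroup.mem_centralizer_iff.1 (hcent hv) _
      ⟨_, hW (Subgroup.mem_sup_right (Subgroup.subset_closure ⟨a, rfl⟩)), rfl⟩

/-- Above the kernel on a normal `(p, p)` subgroup the `p`-part is at most `p`. -/
theorem le_one_of_dvd_index {V R : Subgroup G} [V.Normal] [R.Normal] (hV : IsElementaryAbelian p V)
    (hVc : Nat.card ↥V = p ^ 2) (hR : IsPGroup p ↥R)
    (hC : Subgroup.centralizer (V : Set G) ≤ R) {n : ℕ} (hn : p ^ n ∣ R.index) : n ≤ 1 := by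
  obtain ⟨S⟩ : Nonempty (Sylow p G) := inferInstance
  have hVp : IsPGroup p ↥V := IsPGroup.of_card hVc
  have hVS : V ≤ (S : Subgroup G) := (Cores.le_pCore hVp).trans (Cores.pCore_le_sylow S)
  let W := V.subgroupOf (S : Subgroup G)
  have hWc : Nat.card ↥W = p ^ 2 := by
    rw [Nat.card_congr (Subgroup.subgroupOfEquivOfLe hVS).toEquiv, hVc]
  have hW : IsElementaryAbelian p W :=
    ⟨⟨⟨fun a b => Subtype.ext (Subtype.ext (congrArg Subtype.val
      (hV.1.is_comm.comm ⟨_, a.2⟩ ⟨_, b.2⟩) :))⟩⟩,
      fun a ha => Subtype.ext (by simpa using hV.2 (a : G) ha)⟩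
  have hCR : Nat.card ↥(Subgroup.centralizer (W : Set ↥(S : Subgroup G))) ≤ Nat.card ↥R := by
    refine Nat.card_le_card_of_injective (fun c => (⟨((c : ↥(S : Subgroup G)) : G),
      hC (Subgroup.mem_centralizer_iff.2 fun v hv =>
        congrArg Subtype.val (Subgroup.mem_centralizer_iff.1 c.2 ⟨v, hVS hv⟩ hv))⟩ : ↥R)) ?_
    intro a b hab
    exact Subtype.ext (Subtype.ext (congrArg Subtype.val hab :))
  have hidx : (Subgroup.centralizer (W : Set ↥(S : Subgroup G))).index ≤ p := by
    by_cases hz : W ≤ Subgroup.center ↥(S : Subgroup G)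
    · rw [show Subgroup.centralizer (W : Set ↥(S : Subgroup G)) = ⊤ from
        eq_top_iff.2 fun s _ => Subgroup.mem_centralizer_iff.2 fun w hw =>
          (Subgroup.mem_center_iff.1 (hz hw) s).symm, Subgroup.index_top]
      exact hp.out.one_lt.le
    · exact (PGroupTheory.RankTwo.index_centralizer S.isPGroup' hW hWc hz).le
  have hS : Nat.card ↥(S : Subgroup G) ≤ Nat.card ↥R * p := by
    rw [← Subgroup.card_mul_index (Subgroup.centralizer (W : Set ↥(S : Subgroup G)))]
    exact Nat.mul_le_mul hCR hidx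
  obtain ⟨r, hr⟩ := IsPGroup.iff_card.1 hR
  have hd : p ^ (r + n) ∣ Nat.card ↥(S : Subgroup G) := by
    apply S.pow_dvd_card_of_pow_dvd_card
    rw [← Subgroup.card_mul_index R, hr, pow_add]
    exact Nat.mul_dvd_mul_left _ hn
  have h := (Nat.le_of_dvd Nat.card_pos hd).trans hS
  rw [hr, ← pow_succ, Nat.pow_le_pow_iff_right hp.out.one_lt] at h
  omega

/-- The main case: `O_{p'}(G) = 1`. -/
theorem relIndex_le_sq (hp2 : p ≠ 2) (hG : IsPSolvable p G) (hO : pPrimeCore p G = ⊥)
    (hr : PRankLE p 2 G) {H K : Subgroup G} [H.Normal] [K.Normal] (hKH : K < H) {n : ℕ}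
    (hpow : K.relIndex H = p ^ n) (hc : Chief H K) : n ≤ 2 := by
  set R := pCore p G with hRdef
  haveI : R.Normal := PSolvable.pCore_normal'
  have hR : IsPGroup p ↥R := PSolvable.isPGroup_pCore
  have hCR : Subgroup.centralizer (R : Set G) ≤ R := PSolvable.centralizer_pCore_le hG hO
  have hrank : ∀ E : Subgroup G, IsElementaryAbelian p E → Nat.card ↥E ≤ p ^ 2 := fun E hE =>
    hr E hE.1 hE.2
  obtain ⟨D, hDR, hnorm, hexp, hcl, hfix⟩ := exists_omega hp2 hR
  haveI hDn : D.Normal := Subgroup.normalizer_eq_top_iff.1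
    (top_le_iff.1 ((Subgroup.normalizer_eq_top (H := R)).symm.le.trans hnorm))
  -- elements of order prime to `p` centralizing `D`
  have hfaith : ∀ g : G, (orderOf g).Coprime p → (∀ d ∈ D, Commute g d) → g = 1 := fun g hg h =>
    CharP.eq_one_of_coprime_of_mem hR (hCR (Subgroup.mem_centralizer_iff.2 fun r hr =>
      (hfix g (by rw [Subgroup.normalizer_eq_top]; exact Subgroup.mem_top g) hg h r hr).eq.symm)) hg
  have hkill : ∀ X : Subgroup G, X.Normal →
      (∀ g ∈ X, (orderOf g).Coprime p → ∀ d ∈ D, Commute g d) → X ≤ R := fun X hX h =>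
    PSolvable.le_pCore hX fun g => by
      obtain ⟨a, ha⟩ := CharP.exists_pow_coprime (p := p) (g : G)
      exact ⟨a, Subtype.ext (by
        simpa using hfaith _ ha (h _ (pow_mem g.2 _) ha))⟩
  have hDp : IsPGroup p ↥D := hR.to_le hDR
  obtain ⟨d, hd⟩ := IsPGroup.iff_card.1 hDp
  have hd3 : d ≤ 3 := (Nat.pow_le_pow_iff_right hp.out.one_lt).1 (hd ▸
    PGroupTheory.RankTwo.card_le_of_exponent hDp hp2 (PGroupTheory.RankTwo.prankLE_subgroup hr D)
      fun x => Subtype.ext (by simpa using hexp (x : G) x.2))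
  -- reduction to factors inside `R`
  have hbound : ∀ (C : Subgroup G) [C.Normal], H ⊓ C ≤ K →
      K.relIndex H ∣ Nat.card (G ⧸ C) := fun C _ h => by
    rw [← relIndex_quot (N := C) hKH.le h]
    exact (Subgroup.index_dvd_card _).trans (Subgroup.card_subgroup_dvd_card _)
  -- case A
  by_cases hA : ∀ g ∈ powSub p G, (orderOf g).Coprime p → ∀ d ∈ D, Commute g d
  · have hW : powSub p G ≤ R := hkill _ powSub_normal hA
    rcases inf_le_or_sup_eq hKH.le hc R with h | h
    · have h1 := hbound R h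
      rw [hpow] at h1
      have h2 : ∀ q : G ⧸ R, q ^ (p - 1) = 1 := fun q => by
        obtain ⟨g, rfl⟩ := QuotientGroup.mk_surjective q
        rw [← QuotientGroup.mk_pow, QuotientGroup.eq_one_iff]
        exact hW (Subgroup.mem_sup_right (Subgroup.subset_closure ⟨g, rfl⟩))
      rcases Nat.eq_zero_or_pos n with rfl | hn0
      · omega
      exfalso
      obtain ⟨q, hq⟩ := exists_prime_orderOf_dvd_card' p ((dvd_pow_self p hn0.ne').trans h1)
      have := Nat.le_of_dvd (by have := hp.out.two_le; omega) (hq ▸ orderOf_dvd_of_pow_eq_one (h2 q))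
      have := hp.out.two_le
      omega
    · haveI : (H ⊓ R).Normal := inferInstance
      have hlt : K ⊓ R < H ⊓ R := lt_of_le_of_ne (inf_le_inf_right R hKH.le) fun h' =>
        hKH.ne (by rw [← h, ← h', sup_eq_right.2 inf_le_left])
      have h1 := relIndex_eq_of_powSub_le hR hW inf_le_right hlt (chief_inf hKH.le hc h)
      rw [relIndex_inf hKH.le h, hpow] at h1
      have := Nat.pow_right_injective hp.out.two_le (h1.trans (pow_one p).symm)
      omega
  -- the largest part of `D` on which everything is trivial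
  obtain ⟨M, ⟨hMn, hMD, hMgood⟩, hMmax⟩ := (Set.toFinite {M : Subgroup G | M.Normal ∧ M ≤ D ∧
    ∀ g ∈ powSub p G, (orderOf g).Coprime p → ∀ d ∈ M, Commute g d}).exists_maximal
    ⟨⊥, inferInstance, bot_le, fun g _ _ d hd => by rw [Subgroup.mem_bot.1 hd]; exact Commute.one_right g⟩
  haveI := hMn
  have hMne : M ≠ D := fun h => hA (h ▸ hMgood)
  have hstep : ∀ M' : Subgroup G, M'.Normal → M ≤ M' → M' ≤ D → M.relIndex M' ≠ p := by
    intro M' hM' hle hle' hidx
    haveI := hM'
    have hgood : ∀ g ∈ powSub p G, (orderOf g).Coprime p → ∀ d ∈ M', Commute g d := fun g hg hgo d hd => by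
      have hm := commutator_mem_of_relIndex hle hidx hg hd
      exact commute_of_stab (j := 1) hgo (hMgood g hg hgo _ hm)
        (by rw [pow_one]; exact hexp _ (hMD hm))
    have h := hMmax ⟨hM', hle', hgood⟩ hle
    rw [Subgroup.relIndex_eq_one.2 h] at hidx
    exact hp.out.ne_one hidx.symm
  obtain ⟨m, hm⟩ := IsPGroup.iff_card.1 (hDp.to_le hMD)
  have hidxM : ∀ {M' : Subgroup G}, M ≤ M' → ∀ {k : ℕ}, Nat.card ↥M' = p ^ (m + k) →
      M.relIndex M' = p ^ k := fun {M'} hle {k} hk => by
    have := Subgroup.relIndex_mul_relIndex ⊥ M M' bot_le hle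
    rw [Subgroup.relIndex_bot_left, Subgroup.relIndex_bot_left, hm, hk, pow_add] at this
    exact Nat.eq_of_mul_eq_mul_left (pow_pos hp.out.pos m) this
  have hmd : m + 2 ≤ d := by
    have h1 : p ^ m < p ^ d := hm ▸ hd ▸ lt_of_le_of_ne (Subgroup.card_le_of_le hMD)
      fun h => hMne (Subgroup.eq_of_le_of_card_ge hMD h.ge)
    have h2 := (Nat.pow_lt_pow_iff_right hp.out.one_lt).1 h1
    by_contra hlt
    obtain rfl : d = m + 1 := by omega
    exact hstep D hDn hMD le_rfl (by rw [hidxM hMD (k := 1) hd, pow_one])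
  -- the centre of `D`
  let Z := D ⊓ Subgroup.centralizer (D : Set G)
  haveI : (Subgroup.centralizer (D : Set G)).Normal := Subgroup.normal_centralizer
  haveI : Z.Normal := inferInstance
  have hnab : d = 3 → ¬ IsMulCommutative ↥D := fun h hab => by
    have := hrank D ⟨hab, hexp⟩
    rw [hd, h, Nat.pow_le_pow_iff_right hp.out.one_lt] at this
    omega
  have hDne : ¬ IsMulCommutative ↥D → Nat.card ↥Z = p := fun hab => by
    have h3 : d = 3 := by
      by_contra h
      have h2 : d = 2 := by omega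
      exact hab (IsPGroup.isMulCommutative_of_card_eq_prime_sq (hd.trans (by rw [h2])))
    have hZc : Nat.card ↥Z = Nat.card ↥(Subgroup.center ↥D) := by
      rw [← Subgroup.card_map_of_injective (f := D.subtype) D.subtype_injective (K := Subgroup.center ↥D)]
      congr 2
      ext x
      constructor
      · rintro ⟨hx, hxc⟩
        exact ⟨⟨x, hx⟩, Subgroup.mem_center_iff.2 fun y => Subtype.ext
          (Subgroup.mem_centralizer_iff.1 hxc (y : G) y.2), rfl⟩
      · rintro ⟨z, hz, rfl⟩
        exact ⟨z.2, Subgroup.mem_centralizer_iff.2 fun y hy =>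
          congrArg Subtype.val (Subgroup.mem_center_iff.1 hz ⟨y, hy⟩)⟩
    haveI : Nontrivial ↥D := by
      rw [← Finite.one_lt_card_iff_nontrivial, hd, h3]
      exact Nat.one_lt_pow (by norm_num) hp.out.one_lt
    haveI := hDp.center_nontrivial
    obtain ⟨k, hk0, hk⟩ := (hDp.to_subgroup (Subgroup.center ↥D)).nontrivial_iff_card.1 inferInstance
    have hk2 : k < 2 := by
      by_contra hk2
      apply hab
      have h1 := Subgroup.card_mul_index (Subgroup.center ↥D)
      rw [hk, hd, h3] at h1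
      have h2 : (Subgroup.center ↥D).index ∣ p := by
        have : p ^ 2 * (Subgroup.center ↥D).index ∣ p ^ 2 * p := by
          rw [← pow_succ, ← h1]
          exact Nat.mul_dvd_mul_right (pow_dvd_pow p (by omega)) _
        exact (Nat.mul_dvd_mul_iff_left (pow_pos hp.out.pos 2)).1 this
      haveI : IsCyclic (↥D ⧸ Subgroup.center ↥D) := by
        rcases (Nat.dvd_prime hp.out).1 h2 with h | h
        · haveI : Subsingleton (↥D ⧸ Subgroup.center ↥D) :=
            (Nat.card_eq_one_iff_unique.1 h).1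
          infer_instance
        · exact isCyclic_of_prime_card (p := p) h
      exact ⟨⟨fun a b => (MonoidHom.isMulCommutative_of_isCyclic_of_ker_le_center (QuotientGroup.mk' (Subgroup.center ↥D))
        (by rw [QuotientGroup.ker_mk'])).is_comm.comm a b⟩⟩
    rw [hZc, hk, show k = 1 by omega, pow_one]
  have hm1 : m ≤ 1 := by omega
  rcases Nat.eq_zero_or_pos m with rfl | hm0
  · -- `D` is a minimal normal subgroup
    have hMbot : M = ⊥ := Subgroup.card_eq_one.1 (by simpa using hm)
    obtain ⟨N, ⟨hNn, hN1, hND⟩, hNmin⟩ := (Set.toFinite {N : Subgroup G | N.Normal ∧ N ≠ ⊥ ∧ N ≤ D}).exists_minimal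
      ⟨D, hDn, fun h => hMne (hMbot.trans h.symm), le_rfl⟩
    haveI := hNn
    obtain ⟨a, ha⟩ := IsPGroup.iff_card.1 (hDp.to_le hND)
    have ha2 : 2 ≤ a := by
      by_contra h
      interval_cases a
      · exact hN1 (Subgroup.card_eq_one.1 (by simpa using ha))
      · exact hstep N hNn (hMbot ▸ bot_le) hND (by rw [hidxM (hMbot ▸ bot_le) (k := 1) (by simpa using ha), pow_one])
    have hminN : ∀ L : Subgroup G, L.Normal → L ≤ N → L = ⊥ ∨ L = N := fun L hL hle => by
      by_cases h : L = ⊥
      · exact Or.inl h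
      · exact Or.inr (le_antisymm hle (hNmin ⟨hL, h, hle.trans hND⟩ hle))
    have hd2 : d = 2 := by
      by_contra h
      have h3 : d = 3 := by omega
      have hZ := hDne (hnab h3)
      have hNZ : N ≤ Z := le_inf hND (le_centralizer_of_minimal hDp hND hminN)
      have := Subgroup.card_le_of_le hNZ
      rw [hZ, ha] at this
      have h1 : p ^ a ≤ p ^ 1 := by rwa [pow_one]
      have := (Nat.pow_le_pow_iff_right hp.out.one_lt).1 h1
      omega
    have hND' : N = D := Subgroup.eq_of_le_of_card_ge hND (by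
      rw [hd, ha, hd2]; exact Nat.pow_le_pow_right hp.out.pos ha2)
    rw [hND'] at hminN
    have hRD : D ≤ Subgroup.centralizer (R : Set G) := le_centralizer_of_minimal hR hDR hminN
    have hDab : IsElementaryAbelian p D :=
      ⟨⟨⟨fun a b => Subtype.ext (Subgroup.mem_centralizer_iff.1 (hRD b.2) a (hDR a.2))⟩⟩, hexp⟩
    have hDc : Nat.card ↥D = p ^ 2 := hd.trans (by rw [hd2])
    have hCD : Subgroup.centralizer (D : Set G) ≤ R := hkill _ inferInstance fun g hg _ x hx =>
      (Subgroup.mem_centralizer_iff.1 hg x hx).symm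
    rcases inf_le_or_sup_eq hKH.le hc R with h | h
    · have h1 := hbound R h
      rw [hpow] at h1
      exact (le_one_of_dvd_index hDab hDc hR hCD h1).trans (by norm_num)
    · have hin : ∀ z ∈ R, z ^ p = 1 → z ∈ D := fun z hz hzp => by
        have hel := isElementaryAbelian_sup hDab hzp fun x hx =>
          (Subgroup.mem_centralizer_iff.1 (hRD hx) z hz).symm
        have heq := Subgroup.eq_of_le_of_card_ge (le_sup_left : D ≤ D ⊔ Subgroup.zpowers z)
          ((hrank _ hel).trans hDc.ge)
        rw [heq]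
        exact Subgroup.mem_sup_right (Subgroup.mem_zpowers z)
      have h1 := relIndex_le_of_pCentral (p := p) hp2 2 _ G R (H ⊓ R) (K ⊓ R) le_rfl hR
        (fun z hz hzp r hr => Subgroup.mem_centralizer_iff.1 (hRD (hin z hz hzp)) r hr)
        (fun S hS hSe => (Subgroup.card_le_of_le fun x hx => hin x (hS hx) (hSe x hx)).trans hDc.le)
        inf_le_right (inf_le_inf_right R hKH.le) (chief_inf hKH.le hc h)
      rw [relIndex_inf hKH.le h, hpow, Nat.pow_le_pow_iff_right hp.out.one_lt] at h1
      exact h1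
  · -- `D` is extraspecial of order `p³`
    obtain rfl : m = 1 := by omega
    obtain rfl : d = 3 := by omega
    have hab := hnab rfl
    have hZ := hDne hab
    have hMZ : M = Z := by
      refine Subgroup.eq_of_le_of_card_ge (le_inf hMD ?_) (by rw [hZ, hm, pow_one])
      refine le_centralizer_of_minimal hDp hMD fun L hL hle => ?_
      have hdvd := Subgroup.card_dvd_of_le hle
      rw [hm, pow_one] at hdvd
      rcases (Nat.dvd_prime hp.out).1 hdvd with h | h
      · exact Or.inl (Subgroup.card_eq_one.1 h)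
      · exact Or.inr (Subgroup.eq_of_le_of_card_ge hle (by rw [hm, pow_one, h]))
    subst hMZ
    have hchief : Chief D Z := fun L hL h1 h2 => by
      obtain ⟨b, hb⟩ := IsPGroup.iff_card.1 (hDp.to_le h2)
      have hb1 : 1 ≤ b := (Nat.pow_le_pow_iff_right hp.out.one_lt).1
        (by rw [← hb, pow_one, ← hZ]; exact Subgroup.card_le_of_le h1)
      have hb3 : b ≤ 3 := (Nat.pow_le_pow_iff_right hp.out.one_lt).1
        (by rw [← hb, ← hd]; exact Subgroup.card_le_of_le h2)
      interval_cases b
      · exact Or.inl (Subgroup.eq_of_le_of_card_ge h1 (by rw [hZ, hb, pow_one])).symm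
      · exact absurd (by rw [hidxM h1 (k := 1) hb, pow_one]) (hstep L hL h1 h2)
      · exact Or.inr (Subgroup.eq_of_le_of_card_ge h2 (by rw [hd, hb]))
    -- generators
    have hZD : Z ≤ D := inf_le_left
    have hZab : IsElementaryAbelian p Z :=
      ⟨⟨⟨fun a b => Subtype.ext (Subgroup.mem_centralizer_iff.1 b.2.2 a a.2.1)⟩⟩,
        fun a ha => hexp a ha.1⟩
    obtain ⟨x, hxD, hxZ⟩ := SetLike.not_le_iff_exists.1 (fun h : D ≤ Z => by
      have := Subgroup.card_le_of_le h
      rw [hd, hZ] at this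
      exact absurd this (not_le.2 (lt_self_pow₀ hp.out.one_lt (by norm_num))))
    let E := Z ⊔ Subgroup.zpowers x
    have hE : IsElementaryAbelian p E := isElementaryAbelian_sup hZab (hexp x hxD) fun z hz =>
      (Subgroup.mem_centralizer_iff.1 hz.2 x hxD).symm
    have hE2 : p ^ 2 ≤ Nat.card ↥E := pow_le_card_of_lt hE (m := 1) (by
      rw [pow_one, ← hZ]; exact card_lt_sup hxZ)
    have hED : E ≤ D := sup_le hZD (Subgroup.zpowers_le.2 hxD)
    obtain ⟨y, hyD, hyE⟩ := SetLike.not_le_iff_exists.1 (fun h : D ≤ E => hab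
      ⟨⟨fun a b => Subtype.ext (congrArg Subtype.val (hE.1.is_comm.comm ⟨a, h a.2⟩ ⟨b, h b.2⟩) :)⟩⟩)
    have hgen : D ≤ E ⊔ Subgroup.zpowers y := by
      have hle : E ⊔ Subgroup.zpowers y ≤ D := sup_le hED (Subgroup.zpowers_le.2 hyD)
      obtain ⟨b, hb⟩ := IsPGroup.iff_card.1 (hDp.to_le hle)
      have h1 := lt_of_le_of_lt hE2 (card_lt_sup hyE)
      rw [hb, Nat.pow_lt_pow_iff_right hp.out.one_lt] at h1
      rw [Subgroup.eq_of_le_of_card_ge hle (by rw [hd, hb]; exact Nat.pow_le_pow_right hp.out.pos h1)]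
    have hcd : ∀ g : G, Commute g x → Commute g y → (∀ z ∈ Z, Commute g z) → ∀ w ∈ D, Commute g w :=
      fun g hgx hgy hgz w hw => by
        have hle : E ⊔ Subgroup.zpowers y ≤ Subgroup.centralizer ({g} : Set G) :=
          sup_le (sup_le (fun z hz => Subgroup.mem_centralizer_singleton_iff.2 (hgz z hz).eq.symm)
            (Subgroup.zpowers_le.2 (Subgroup.mem_centralizer_singleton_iff.2 hgx.eq.symm)))
            (Subgroup.zpowers_le.2 (Subgroup.mem_centralizer_singleton_iff.2 hgy.eq.symm))
        exact (Subgroup.mem_centralizer_singleton_iff.1 (hle (hgen hw))).symm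
    have hc0 : ⁅x, y⁆ ≠ 1 := fun h => hab ⟨⟨fun a b => Subtype.ext (by
      have hxy : Commute x y := commutatorElement_eq_one_iff_mul_comm.1 h
      have hzc : ∀ z ∈ Z, ∀ w ∈ D, Commute w z := fun z hz w hw =>
        Subgroup.mem_centralizer_iff.1 hz.2 w hw
      exact (hcd (a : G) (hcd x (Commute.refl x) hxy (fun z hz => hzc z hz x hxD) a a.2).symm
        (hcd y hxy.symm (Commute.refl y) (fun z hz => hzc z hz y hyD) a a.2).symm
        (fun z hz => hzc z hz a a.2) b b.2).eq)⟩⟩
    have hc0Z : ⁅x, y⁆ ∈ Z := by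
      refine Subgroup.mem_inf.2 ⟨?_, Subgroup.mem_centralizer_iff.2 fun w hw =>
        (hcl x hxD y hyD w hw).eq⟩
      rw [commutatorElement_def]
      exact mul_mem (mul_mem (mul_mem hxD hyD) (inv_mem hxD)) (inv_mem hyD)
    -- elements trivial on `D / Z` and of order prime to `p`
    have hstab : ∀ g : G, (orderOf g).Coprime p → (∀ w ∈ D, ⁅g, w⁆ ∈ Z) →
        ∀ w ∈ D, Commute g w := by
      intro g hg hgw w hw
      have hgz : Commute g ⁅x, y⁆ := by
        have h1 : g * ⁅x, y⁆ * g⁻¹ = ⁅⁅g, x⁆ * x, ⁅g, y⁆ * y⁆ := by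
          simp only [commutatorElement_def]; group
        have hz1 : ∀ w ∈ D, ∀ v ∈ D, Commute v ⁅g, w⁆ := fun w hw v hv =>
          Subgroup.mem_centralizer_iff.1 (hgw w hw).2 v hv
        have h2 : ⁅⁅g, x⁆ * x, ⁅g, y⁆ * y⁆ = ⁅x, y⁆ := by
          have a1 := hz1 x hxD x hxD
          have a2 := hz1 x hxD y hyD
          have a4 := hz1 y hyD y hyD
          have a5 := hz1 y hyD x hxD
          have a3 : Commute ⁅g, x⁆ ⁅g, y⁆ := (hz1 y hyD _ (hgw x hxD).1)
          generalize ⁅g, x⁆ = s at *
          generalize ⁅g, y⁆ = t at *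
          calc ⁅s * x, t * y⁆ = s * (x * t) * y * x⁻¹ * s⁻¹ * y⁻¹ * t⁻¹ := by
                simp only [commutatorElement_def]; group
            _ = s * t * (x * y * x⁻¹) * s⁻¹ * y⁻¹ * t⁻¹ := by rw [a5.eq]; group
            _ = s * t * ((x * y * x⁻¹) * s⁻¹) * y⁻¹ * t⁻¹ := by group
            _ = s * t * (s⁻¹ * (x * y * x⁻¹)) * y⁻¹ * t⁻¹ := by
                rw [((a1.mul_left a2).mul_left a1.inv_left).inv_right.eq]
            _ = (s * t * s⁻¹) * ((x * y * x⁻¹ * y⁻¹) * t⁻¹) := by group
            _ = t * (t⁻¹ * (x * y * x⁻¹ * y⁻¹)) := by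
                rw [a3.eq, mul_inv_cancel_right,
                  (((a5.mul_left a4).mul_left a5.inv_left).mul_left a4.inv_left).inv_right.eq]
            _ = ⁅x, y⁆ := by rw [mul_inv_cancel_left, commutatorElement_def]
        exact mul_inv_eq_iff_eq_mul.1 (h1.trans h2)
      have hZgen : Z ≤ Subgroup.centralizer ({g} : Set G) := by
        have hle : Subgroup.zpowers ⁅x, y⁆ ≤ Z := Subgroup.zpowers_le.2 hc0Z
        rw [← Subgroup.eq_of_le_of_card_ge hle (by
          rw [Nat.card_zpowers, hZ, orderOf_eq_prime (hexp _ hc0Z.1) hc0])]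
        exact Subgroup.zpowers_le.2 (Subgroup.mem_centralizer_singleton_iff.2 hgz.eq.symm)
      exact commute_of_stab (j := 1) hg
        (Subgroup.mem_centralizer_singleton_iff.1 (hZgen (hgw w hw))).symm
        (by rw [pow_one]; exact hexp _ (hgw w hw).1)
    set π := QuotientGroup.mk' Z with hπ
    have hs : Function.Surjective π := QuotientGroup.mk'_surjective Z
    haveI : (D.map π).Normal := Subgroup.Normal.map hDn π hs
    haveI : (R.map π).Normal := Subgroup.Normal.map ‹R.Normal› π hs
    have hZb : Z.map π = ⊥ := by rw [Subgroup.map_eq_bot_iff, hπ, QuotientGroup.ker_mk']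
    have hVc : Nat.card ↥(D.map π) = p ^ 2 := by
      have h := hidxM hZD (k := 2) hd
      rw [← relIndex_quot (N := Z) hZD inf_le_right, ← hπ, hZb, Subgroup.relIndex_bot_left] at h
      exact h
    have hVel : IsElementaryAbelian p (D.map π) := by
      refine ⟨IsPGroup.isMulCommutative_of_card_eq_prime_sq hVc, ?_⟩
      rintro _ ⟨w, hw, rfl⟩
      rw [← map_pow, hexp w hw, map_one]
    have hmap_mem : ∀ g w : G, Commute (π g) (π w) → ⁅g, w⁆ ∈ Z := fun g w h => by
      rw [← QuotientGroup.eq_one_iff (N := Z), ← QuotientGroup.mk'_apply, ← hπ,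
        map_commutatorElement, commutatorElement_eq_one_iff_mul_comm]
      exact h
    have hRV : ∀ r ∈ R, ∀ w ∈ D, ⁅r, w⁆ ∈ Z := fun r hr w hw =>
      hmap_mem r w (Subgroup.mem_centralizer_iff.1
        ((le_centralizer_of_minimal (hR.map π) (Subgroup.map_mono hDR) fun L hL hle =>
          hZb ▸ chief_quot hchief hZD L hL (by rw [hZb]; exact bot_le) hle) ⟨w, hw, rfl⟩)
        _ ⟨r, hr, rfl⟩)
    have hCb : Subgroup.centralizer ((D.map π : Subgroup (G ⧸ Z)) : Set (G ⧸ Z)) ≤ R.map π := by
      intro q hq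
      obtain ⟨g, rfl⟩ := hs q
      refine ⟨g, hkill ((Subgroup.centralizer ((D.map π : Subgroup (G ⧸ Z)) : Set (G ⧸ Z))).comap π)
        inferInstance (fun k hk hko => hstab k hko fun w hw => hmap_mem k w
          (Subgroup.mem_centralizer_iff.1 hk _ ⟨w, hw, rfl⟩).symm) hq, rfl⟩
    rcases inf_le_or_sup_eq hKH.le hc R with h | h
    · have h1 := hbound R h
      rw [hpow, ← Subgroup.index_eq_card, ← Subgroup.index_map_eq (H := R) hs] at h1
      · exact (le_one_of_dvd_index hVel hVc (hR.map π) hCb h1).trans (by norm_num)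
      · rw [hπ, QuotientGroup.ker_mk']; exact hZD.trans hDR
    · let C := R ⊓ Subgroup.centralizer (D : Set G)
      haveI : C.Normal := inferInstance
      haveI : (H ⊓ R).Normal := inferInstance
      have hc' := chief_inf hKH.le hc h
      have hle' : K ⊓ R ≤ H ⊓ R := inf_le_inf_right R hKH.le
      rw [← Nat.pow_le_pow_iff_right hp.out.one_lt, ← hpow, ← relIndex_inf hKH.le h]
      rcases inf_le_or_sup_eq hle' hc' C with h' | h'
      · rw [← relIndex_quot (N := C) hle' h']
        refine (Nat.le_of_dvd Nat.card_pos (Subgroup.index_dvd_card _)).trans ?_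
        refine (Subgroup.card_le_of_le (Subgroup.map_mono inf_le_right)).trans ?_
        rw [← Subgroup.relIndex_bot_left, ← Subgroup.map_bot (QuotientGroup.mk' C),
          Subgroup.relIndex_map_map, QuotientGroup.ker_mk', bot_sup_eq,
          sup_eq_left.2 (inf_le_left : C ≤ R)]
        have hsq : p ^ 2 = Nat.card (↥Z × ↥Z) := by rw [Nat.card_prod, hZ, pow_two]
        rw [hsq]
        refine Nat.card_le_card_of_injective (fun q : ↥R ⧸ C.subgroupOf R =>
          ((⟨⁅((q.out : ↥R) : G), x⁆, hRV _ q.out.2 x hxD⟩ : ↥Z),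
            (⟨⁅((q.out : ↥R) : G), y⁆, hRV _ q.out.2 y hyD⟩ : ↥Z))) ?_
        intro q q' hq
        rw [← QuotientGroup.out_eq' q, ← QuotientGroup.out_eq' q', QuotientGroup.eq,
          Subgroup.mem_subgroupOf]
        have hr : ((q.out : ↥R) : G)⁻¹ * (q'.out : ↥R) ∈ R :=
          mul_mem (inv_mem q.out.2) q'.out.2
        have key : ∀ w : G, ⁅((q.out : ↥R) : G), w⁆ = ⁅((q'.out : ↥R) : G), w⁆ →
            Commute (((q.out : ↥R) : G)⁻¹ * (q'.out : ↥R)) w := fun w hw => by
          have h1 : ((q.out : ↥R) : G) * w * ((q.out : ↥R) : G)⁻¹ =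
              ((q'.out : ↥R) : G) * w * ((q'.out : ↥R) : G)⁻¹ :=
            mul_right_cancel (b := w⁻¹) hw
          generalize ((q.out : ↥R) : G) = a at *
          generalize ((q'.out : ↥R) : G) = b at *
          show a⁻¹ * b * w = w * (a⁻¹ * b)
          calc a⁻¹ * b * w = a⁻¹ * (b * w * b⁻¹) * b := by group
            _ = w * (a⁻¹ * b) := by rw [← h1]; group
        refine Subgroup.mem_inf.2 ⟨hr, Subgroup.mem_centralizer_iff.2 fun w hw => ?_⟩
        refine (hcd _ (key x ?_) (key y ?_) (fun z hz => ?_) w hw).eq.symm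
        · exact congrArg (fun u : ↥Z × ↥Z => (u.1 : G)) hq
        · exact congrArg (fun u : ↥Z × ↥Z => (u.2 : G)) hq
        · exact Subgroup.mem_centralizer_iff.1 (le_centralizer_of_minimal hR (hZD.trans hDR)
            (fun L _ hle => by
              have hdvd := Subgroup.card_dvd_of_le hle
              rw [hZ] at hdvd
              rcases (Nat.dvd_prime hp.out).1 hdvd with h | h
              · exact Or.inl (Subgroup.card_eq_one.1 h)
              · exact Or.inr (Subgroup.eq_of_le_of_card_ge hle (by rw [hZ, h]))) hz) _ hr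
      · rw [← relIndex_inf hle' h']
        have hin : ∀ z ∈ C, z ^ p = 1 → z ∈ Z := fun z hz hzp => by
          refine Subgroup.mem_inf.2 ⟨?_, hz.2⟩
          by_contra hzD
          have hz' : ∀ a ∈ E, Commute a z := fun a ha =>
            Subgroup.mem_centralizer_iff.1 hz.2 a (hED ha)
          have hlt := lt_of_le_of_lt hE2 (card_lt_sup (fun h => hzD (hED h)))
          exact absurd (hrank _ (isElementaryAbelian_sup hE hzp hz')) (not_le.2 hlt)
        refine (relIndex_le_of_pCentral (p := p) hp2 1 _ G C (H ⊓ R ⊓ C) (K ⊓ R ⊓ C) le_rfl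
          (hR.to_le inf_le_left) (fun z hz hzp r hr =>
            Subgroup.mem_centralizer_iff.1 hr.2 z (hin z hz hzp).1 |>.symm)
          (fun S hS hSe => (Subgroup.card_le_of_le fun w hw => hin w (hS hw) (hSe w hw)).trans
            (by rw [hZ, pow_one]))
          inf_le_right (inf_le_inf_right C hle') (chief_inf hle' hc' h')).trans ?_
        exact Nat.pow_le_pow_right hp.out.pos (by norm_num)

/-- In a `p`-soluble group of `p`-rank at most two, `p` odd, a `p`-chief factor has order `p` or `p²`. -/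
theorem chief_factor_card (hp2 : p ≠ 2) (hG : IsPSolvable p G) (hr : PRankLE p 2 G)
    {H K : Subgroup G} [H.Normal] [K.Normal] (hKH : K < H) (hpow : ∃ n : ℕ, K.relIndex H = p ^ n)
    (hc : Chief H K) : K.relIndex H = p ∨ K.relIndex H = p ^ 2 := by
  obtain ⟨n, hn⟩ := hpow
  set O := pPrimeCore p G with hO
  haveI : O.Normal := PSolvable.pPrimeCore_normal'
  have hcop : (Nat.card ↥O).Coprime p := PSolvable.card_pPrimeCore_coprime
  have hn0 : n ≠ 0 := fun h => by
    rw [h, pow_zero, Subgroup.relIndex_eq_one] at hn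
    exact not_le_of_gt hKH hn
  have hHO : H ⊓ O ≤ K := by
    rcases inf_le_or_sup_eq hKH.le hc O with h | h
    · exact h
    · exfalso
      have h1 : K.relIndex H ∣ Nat.card ↥O := by
        rw [← relIndex_inf hKH.le h]
        exact (Subgroup.index_dvd_card _).trans (Subgroup.card_dvd_of_le inf_le_right)
      rw [hn] at h1
      exact hn0 (Nat.pow_eq_one.1 (Nat.eq_one_of_dvd_coprimes
        ((hcop.pow_right n).symm) dvd_rfl h1) |>.resolve_left hp.out.ne_one)
  set π := QuotientGroup.mk' O with hπ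
  have hs : Function.Surjective π := QuotientGroup.mk'_surjective O
  haveI : (H.map π).Normal := Subgroup.Normal.map ‹H.Normal› π hs
  haveI : (K.map π).Normal := Subgroup.Normal.map ‹K.Normal› π hs
  have hn' : (K.map π).relIndex (H.map π) = p ^ n := by rw [relIndex_quot hKH.le hHO, hn]
  have hlt : K.map π < H.map π := lt_of_le_of_ne (Subgroup.map_mono hKH.le) fun h => by
    rw [h, Subgroup.relIndex_self] at hn'
    exact hn0 ((Nat.pow_eq_one.1 hn'.symm).resolve_left hp.out.ne_one)
  have hrq : PRankLE p 2 (G ⧸ O) := fun A hA hAp =>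
    OddOrder.Rank.prankLE_subgroup_iff.1 (OddOrder.RankTwoGroup.prankLE_quotient O hcop hr
      (V := A) (fun a => ⟨1, Subtype.ext (by simpa using hAp (a : G ⧸ O) a.2)⟩)) A le_rfl ⟨hA, hAp⟩
  have h2 := relIndex_le_sq hp2 (PSolvable.isPSolvable_quotient hG O)
    (PSolvable.pPrimeCore_quotient_eq_bot O hO) hrq hlt hn' (chief_quot hc hKH.le)
  rw [hn]
  interval_cases n
  · exact absurd rfl hn0
  · exact Or.inl (pow_one p)
  · exact Or.inr rfl

end Cfsg.Agent.Lib.Tech42.ChiefRankTwo
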