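import Mathlib
import Cfsg.Agent.Lib.Tech42.QdRankTwo.Cyclic

/-!
A `p'`-group `Q` with a fixed-point-free automorphism `b` of order `p` (odd) centralizes every
`p`-group `U` it acts on together with `b`, provided the elements of order `p` of `C_U(b)` lie
in a single cyclic group centralized by `Q`.

The key point: the norm `N = ∏ γ` of `⟨b⟩` on `U/U'` has cyclic image, which forces the
commutator pairing of `U` to vanish.
-/

namespace Cfsg.Agent.Lib.Tech42.CyclicFixed

open scoped commutatorElement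

set_option autoImplicit false
set_option linter.style.haveILetI false

section Abstract

variable {V C Γ R : Type*} [CommGroup V] [CommGroup C] [Group Γ] [Fintype Γ] [Group R] [Fintype R]

/-- The identity `∏_r r N r⁻¹ = |R|` for a Frobenius action. -/
theorem prod_conj_norm (ψ : Γ →* MulAut V) (φ : R →* MulAut V) (σ : Γ →* MulAut R)
    (hcompat : ∀ γ r, ψ γ * φ r * (ψ γ)⁻¹ = φ (σ γ r))
    (hfpf : ∀ γ : Γ, γ ≠ 1 → ∀ r, σ γ r = r → r = 1)
    (hR : ∀ w : V, ∏ r, φ r w = 1) (x : V) :
    ∏ r, φ r (∏ γ, ψ γ (φ r⁻¹ x)) = x ^ Fintype.card R := by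
  classical
  simp only [map_prod]
  rw [Finset.prod_comm]
  rw [Finset.prod_eq_single (1 : Γ)]
  · rw [Finset.prod_eq_pow_card (b := x)]
    · rfl
    · intro r _
      rw [map_one ψ, MulAut.one_apply, ← MulAut.mul_apply, ← map_mul, mul_inv_cancel, map_one,
        MulAut.one_apply]
  · intro γ _ hγ
    have h1 : ∀ r : R, φ r (ψ γ (φ r⁻¹ x)) = φ (r * (σ γ r)⁻¹) (ψ γ x) := by
      intro r
      have h := congrArg (fun e : MulAut V => e (ψ γ x)) (hcompat γ r⁻¹)
      simp only [MulAut.mul_apply, MulAut.inv_apply_self] at h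
      rw [map_mul, MulAut.mul_apply, h, map_inv (σ γ)]
    simp only [h1]
    have hinj : Function.Injective fun r : R => r * (σ γ r)⁻¹ := by
      intro r s h
      have h2 : σ γ (s⁻¹ * r) = s⁻¹ * r := by
        rw [map_mul, map_inv]
        have h3 : r * (σ γ r)⁻¹ = s * (σ γ s)⁻¹ := h
        calc (σ γ s)⁻¹ * σ γ r = s⁻¹ * (s * (σ γ s)⁻¹) * σ γ r := by group
          _ = s⁻¹ * r := by rw [← h3]; group
      exact (inv_mul_eq_one.mp (hfpf γ hγ _ h2)).symm
    rw [Fintype.prod_bijective _ (Finite.injective_iff_bijective.mp hinj) _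
      (fun r => φ r (ψ γ x)) fun r => rfl]
    exact hR _
  · exact fun h => absurd (Finset.mem_univ _) h

/-- The pairing `(u, v) ↦ f (N u) v` is alternating. -/
theorem norm_pairing_self (hC : ∀ c : C, c * c = 1 → c = 1) (ψ : Γ →* MulAut V)
    (f : V →* V →* C) (halt : ∀ v, f v v = 1) (hfΓ : ∀ γ u v, f (ψ γ u) (ψ γ v) = f u v) (v : V) :
    f (∏ γ, ψ γ v) v = 1 := by
  have hanti : ∀ u w, f u w = (f w u)⁻¹ := fun u w => eq_inv_of_mul_eq_one_left (by
    have h := halt (u * w)
    simp only [map_mul, MonoidHom.mul_apply, halt, one_mul, mul_one] at h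
    rwa [mul_comm] at h)
  apply hC
  rw [map_prod, MonoidHom.finsetProd_apply, ← Finset.prod_mul_distrib]
  nth_rewrite 1 [Finset.prod_mul_distrib]
  conv_lhs => arg 1; rw [← Fintype.prod_equiv (Equiv.inv Γ) (fun γ => f (ψ γ⁻¹ v) v)
    (fun γ => f (ψ γ v) v) fun γ => rfl]
  rw [← Finset.prod_mul_distrib]
  refine Finset.prod_eq_one fun γ _ => ?_
  have h := hfΓ γ (ψ γ⁻¹ v) v
  rw [← MulAut.mul_apply, ← map_mul, mul_inv_cancel, map_one, MulAut.one_apply] at h
  rw [← h, hanti v (ψ γ v), inv_mul_cancel]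

/-- If the norm has cyclic image, an invariant alternating pairing into an odd group is trivial. -/
theorem pairing_trivial (hC : ∀ c : C, c * c = 1 → c = 1)
    (hC' : ∀ c : C, c ^ Fintype.card R = 1 → c = 1)
    (ψ : Γ →* MulAut V) (φ : R →* MulAut V) (σ : Γ →* MulAut R)
    (hcompat : ∀ γ r, ψ γ * φ r * (ψ γ)⁻¹ = φ (σ γ r))
    (hfpf : ∀ γ : Γ, γ ≠ 1 → ∀ r, σ γ r = r → r = 1)
    (hR : ∀ w : V, ∏ r, φ r w = 1)
    (f : V →* V →* C) (halt : ∀ v, f v v = 1)
    (hfΓ : ∀ γ u v, f (ψ γ u) (ψ γ v) = f u v) (hfR : ∀ r u v, f (φ r u) (φ r v) = f u v)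
    (e : V) (he : ∀ v, f (∏ γ, ψ γ v) v = 1 → ∏ γ, ψ γ v ∈ Subgroup.zpowers e) (u v : V) :
    f u v = 1 := by
  let N : V →* V :=
    { toFun := fun w => ∏ γ, ψ γ w
      map_one' := by simp
      map_mul' := fun a b => by simp [Finset.prod_mul_distrib] }
  have hanti : ∀ a b, f a b = (f b a)⁻¹ := fun a b => eq_inv_of_mul_eq_one_left (by
    have h := halt (a * b)
    simp only [map_mul, MonoidHom.mul_apply, halt, one_mul, mul_one] at h
    rwa [mul_comm] at h)
  have hadj : ∀ a b, f (N a) b = f a (N b) := by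
    intro a b
    show f (∏ γ, ψ γ a) b = f a (∏ γ, ψ γ b)
    rw [map_prod, map_prod, MonoidHom.finsetProd_apply]
    refine Fintype.prod_equiv (Equiv.inv Γ) _ _ fun γ => ?_
    show f (ψ γ a) b = f a (ψ γ⁻¹ b)
    conv_rhs => rw [← hfΓ γ]
    rw [← MulAut.mul_apply V (ψ γ) (ψ γ⁻¹), ← map_mul, mul_inv_cancel, map_one, MulAut.one_apply]
  have hle : N.range ≤ Subgroup.zpowers e := by
    rintro _ ⟨w, rfl⟩
    exact he w (norm_pairing_self hC ψ f halt hfΓ w)
  haveI : IsCyclic N.range :=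
    isCyclic_of_injective (Subgroup.inclusion hle) (Subgroup.inclusion_injective hle)
  obtain ⟨⟨e0, x0, rfl⟩, hgen⟩ := IsCyclic.exists_generator (α := N.range)
  have hpow : ∀ z, ∃ k : ℤ, N z = N x0 ^ k := by
    intro z
    obtain ⟨k, hk⟩ := hgen ⟨N z, z, rfl⟩
    exact ⟨k, (congrArg Subtype.val hk).symm⟩
  have h0 : ∀ z, f (N x0) z = 1 := by
    intro z
    obtain ⟨k, hk⟩ := hpow z
    rw [hadj, hk, map_zpow, hanti, inv_zpow, inv_eq_one]
    rw [show f (N x0) x0 = 1 from norm_pairing_self hC ψ f halt hfΓ x0, one_zpow]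
  have hN : ∀ w z, f (N w) z = 1 := by
    intro w z
    obtain ⟨k, hk⟩ := hpow w
    rw [hk, map_zpow, MonoidHom.zpow_apply, h0, one_zpow]
  apply hC'
  rw [← MonoidHom.pow_apply, ← map_pow, ← prod_conj_norm ψ φ σ hcompat hfpf hR u, map_prod,
    MonoidHom.finsetProd_apply]
  refine Finset.prod_eq_one fun r _ => ?_
  have h := hfR r (N (φ r⁻¹ u)) (φ r⁻¹ v)
  rw [← MulAut.mul_apply V (φ r) (φ r⁻¹), ← map_mul, mul_inv_cancel, map_one,
    MulAut.one_apply, hN] at h
  exact h

end Abstract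

variable {G : Type*} [Group G]

/-- A `p`-element normalizing a nontrivial `p`-subgroup fixes a nontrivial element of it. -/
theorem exists_fixed_ne_one [Finite G] {p : ℕ} [hp : Fact p.Prime] (D : Subgroup G)
    (hD : IsPGroup p D) (hne : D ≠ ⊥) (b : G) (hb : b ∈ Subgroup.normalizer (D : Set G))
    {k : ℕ} (hbk : orderOf b = p ^ k) : ∃ d ∈ D, d ≠ 1 ∧ b * d = d * b := by
  let A := Subgroup.zpowers b
  have hA : IsPGroup p A := IsPGroup.of_card (by rw [Nat.card_zpowers, hbk])
  have hAN : A ≤ Subgroup.normalizer (D : Set G) := Subgroup.zpowers_le.mpr hb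
  letI : MulAction A D :=
    MulAction.compHom D ((Subgroup.normalizerMonoidHom D).comp (Subgroup.inclusion hAN))
  haveI : Nontrivial D := (Subgroup.nontrivial_iff_ne_bot D).mpr hne
  obtain ⟨n, hn, hc⟩ := hD.nontrivial_iff_card.mp inferInstance
  have h1 : (1 : D) ∈ MulAction.fixedPoints A D := fun a =>
    map_one (((Subgroup.normalizerMonoidHom D).comp (Subgroup.inclusion hAN)) a)
  obtain ⟨d, hd, hd1⟩ := hA.exists_fixed_point_of_prime_dvd_card_of_fixed_point (α := D)
    (hc ▸ dvd_pow_self p (by omega)) h1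
  refine ⟨d, d.2, fun h => hd1 (Subtype.ext h.symm), ?_⟩
  have h2 : b * (d : G) * b⁻¹ = d := congrArg Subtype.val (hd ⟨b, Subgroup.mem_zpowers b⟩)
  calc b * (d : G) = b * d * b⁻¹ * b := by group
    _ = d * b := by rw [h2]

variable [Finite G] {p : ℕ} [hp : Fact p.Prime]

/-- See the module docstring. -/
theorem centralizes (hp2 : p ≠ 2) (Q : Subgroup G) (b z : G) (hQ : ¬ p ∣ Nat.card Q)
    (hb : b ^ p = 1) (hbQ : b ∈ Subgroup.normalizer (Q : Set G))
    (hfpf : ∀ q ∈ Q, b * q = q * b → q = 1) (hz : z ^ p = 1) (hzQ : ∀ q ∈ Q, q * z = z * q) :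
    ∀ (U : Subgroup G), IsPGroup p U → b ∈ Subgroup.normalizer (U : Set G) →
      Q ≤ Subgroup.normalizer (U : Set G) →
      (∀ u ∈ U, u ^ p = 1 → b * u = u * b → u ∈ Subgroup.zpowers z) →
      U ≤ Subgroup.centralizer (Q : Set G) := by
  classical
  intro U
  induction hn : Nat.card U using Nat.strong_induction_on generalizing U with
  | _ n ih =>
  intro hU hbU hQU hfix
  by_cases hb1 : b = 1
  · intro u _
    rw [Subgroup.mem_centralizer_iff]
    intro q hq
    rw [hfpf q hq (by rw [hb1]; simp), one_mul, mul_one]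
  by_cases hU1 : U = ⊥
  · rw [hU1]; exact bot_le
  by_contra hnot
  have hprop : ∀ W : Subgroup G, W ≤ U → W ≠ U → b ∈ Subgroup.normalizer (W : Set G) →
      Q ≤ Subgroup.normalizer (W : Set G) → W ≤ Subgroup.centralizer (Q : Set G) :=
    fun W hWU hne hbW hQW => ih _ (hn ▸ lt_of_le_of_ne (Subgroup.card_le_of_le hWU)
      (fun h => hne (Subgroup.eq_of_le_of_card_ge hWU h.ge))) W rfl (hU.to_le hWU) hbW hQW
      fun u hu => hfix u (hWU hu)
  have hcomm_norm : ∀ A B : Subgroup G, ∀ g : G, g ∈ Subgroup.normalizer (A : Set G) →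
      g ∈ Subgroup.normalizer (B : Set G) → g ∈ Subgroup.normalizer ((⁅A, B⁆ : Subgroup G) : Set G) := by
    intro A B g hA hB
    have hm : ∀ H : Subgroup G, g ∈ Subgroup.normalizer (H : Set G) →
        H.map (MulAut.conj g).toMonoidHom = H := by
      intro H hH
      ext x
      rw [Subgroup.mem_map_equiv, MulAut.conj_symm_apply]
      rw [Subgroup.mem_normalizer_iff''] at hH
      exact (hH x).symm
    rw [Subgroup.mem_normalizer_iff'']
    intro x
    conv_lhs => rw [← hm A hA, ← hm B hB, ← Subgroup.map_commutator, Subgroup.mem_map_equiv,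
      MulAut.conj_symm_apply]
  -- `[U, Q] = U`
  have hUQ : ⁅U, Q⁆ = U := by
    have hle : ⁅U, Q⁆ ≤ U := Subgroup.le_normalizer_iff_commutator_le_left.mp hQU
    by_contra hne
    have h := hprop _ hle hne (hcomm_norm _ _ b hbU hbQ)
      (fun q hq => hcomm_norm _ _ q (hQU hq) (Subgroup.le_normalizer hq))
    refine hnot fun u hu => ?_
    rw [Subgroup.mem_centralizer_iff]
    intro q hq
    set c := ⁅q, u⁆ with hc
    have hcU : c ∈ ⁅U, Q⁆ := by
      rw [Subgroup.commutator_comm]; exact Subgroup.commutator_mem_commutator hq hu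
    have hqc : q * c = c * q := Subgroup.mem_centralizer_iff.mp (h hcU) q hq
    have hk : ∀ k : ℕ, q ^ k * u * (q ^ k)⁻¹ = c ^ k * u := by
      intro k
      induction k with
      | zero => simp
      | succ k ih' =>
        calc q ^ (k + 1) * u * (q ^ (k + 1))⁻¹ = q * (q ^ k * u * (q ^ k)⁻¹) * q⁻¹ := by
              rw [pow_succ']; group
          _ = (q * c * q⁻¹) ^ k * (q * u * q⁻¹) := by rw [ih', conj_pow]; group
          _ = c ^ k * (c * u) := by rw [hqc, mul_inv_cancel_right, hc, commutatorElement_def]; group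
          _ = c ^ (k + 1) * u := by rw [pow_succ]; exact (mul_assoc _ _ _).symm
    have h1 : c ^ orderOf q = 1 := by
      have := hk (orderOf q)
      rw [pow_orderOf_eq_one] at this
      simpa using this
    obtain ⟨m, hm⟩ := hU ⟨c, hle hcU⟩
    have hcop : (orderOf q).Coprime (p ^ m) := by
      refine Nat.Coprime.pow_right _ ?_
      rw [Nat.coprime_comm, hp.out.coprime_iff_not_dvd]
      exact fun hd => hQ (hd.trans (Q.orderOf_dvd_natCard hq))
    have hc1 : c = 1 := by
      have := (pow_gcd_eq_one (m := orderOf q) (n := p ^ m)).mpr ⟨h1, congrArg Subtype.val hm⟩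
      rwa [Nat.coprime_iff_gcd_eq_one.mp hcop, pow_one] at this
    exact commutatorElement_eq_one_iff_mul_comm.mp hc1
  -- the derived subgroup is proper, centralized by `Q` and central
  have hDlt : ⁅U, U⁆ ≠ U := by
    intro h
    haveI : Nontrivial U := (Subgroup.nontrivial_iff_ne_bot U).mpr hU1
    haveI := hU.isNilpotent
    have h2 : commutator U = ⊤ := Subgroup.map_injective U.subtype_injective (by
      rw [commutator_def, Subgroup.map_commutator, ← MonoidHom.range_eq_map, U.range_subtype, h])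
    exact (Group.IsSolvable.commutator_lt_top_of_nontrivial U).ne h2
  have hDU : ⁅U, U⁆ ≤ U := Subgroup.le_normalizer_iff_commutator_le_left.mp Subgroup.le_normalizer
  have hDQ : ⁅U, U⁆ ≤ Subgroup.centralizer (Q : Set G) :=
    hprop _ hDU hDlt (hcomm_norm _ _ b hbU hbU) (fun q hq => hcomm_norm _ _ q (hQU hq) (hQU hq))
  have hDc : ∀ d ∈ ⁅U, U⁆, ∀ u ∈ U, u * d = d * u := by
    have h3 : ⁅⁅U, Q⁆, ⁅U, U⁆⁆ = ⊥ := by
      apply Subgroup.commutator_commutator_eq_bot_of_rotate
      · rw [Subgroup.commutator_eq_bot_iff_le_centralizer.mpr (Subgroup.le_centralizer_iff.mp hDQ),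
          Subgroup.commutator_bot_left]
      · rw [Subgroup.commutator_eq_bot_iff_le_centralizer]
        exact (Subgroup.le_normalizer_iff_commutator_le_left.mp
          (fun x hx => hcomm_norm _ _ x (Subgroup.le_normalizer hx) (Subgroup.le_normalizer hx))).trans hDQ
    rw [hUQ, Subgroup.commutator_eq_bot_iff_le_centralizer] at h3
    intro d hd u hu
    exact (Subgroup.mem_centralizer_iff.mp (h3 hu) d hd).symm
  -- actions on the abelianization
  have hord : orderOf b = p := orderOf_eq_prime hb hb1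
  have hA : Subgroup.zpowers b ≤ Subgroup.normalizer (U : Set G) := Subgroup.zpowers_le.mpr hbU
  have hAQ : Subgroup.zpowers b ≤ Subgroup.normalizer (Q : Set G) := Subgroup.zpowers_le.mpr hbQ
  let ab : MulAut U →* MulAut (Abelianization U) :=
    { toFun := fun e => e.abelianizationCongr
      map_one' := abelianizationCongr_refl
      map_mul' := fun e e' => (abelianizationCongr_trans e' e).symm }
  let θ : Subgroup.normalizer (U : Set G) →* MulAut (Abelianization U) :=
    ab.comp (Subgroup.normalizerMonoidHom U)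
  let ψ : Subgroup.zpowers b →* MulAut (Abelianization U) := θ.comp (Subgroup.inclusion hA)
  let φ : Q →* MulAut (Abelianization U) := θ.comp (Subgroup.inclusion hQU)
  let σ : Subgroup.zpowers b →* MulAut Q :=
    (Subgroup.normalizerMonoidHom Q).comp (Subgroup.inclusion hAQ)
  have hcompat : ∀ γ r, ψ γ * φ r * (ψ γ)⁻¹ = φ (σ γ r) := by
    intro γ r
    show θ _ * θ _ * (θ _)⁻¹ = θ _
    rw [← map_inv, ← map_mul, ← map_mul]
    exact congrArg θ (Subtype.ext rfl)
  have hfpf' : ∀ γ : Subgroup.zpowers b, γ ≠ 1 → ∀ r, σ γ r = r → r = 1 := by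
    intro γ hγ r hr
    have h1 : (γ : G) * r * (γ : G)⁻¹ = r := congrArg Subtype.val hr
    have hγ1 : (γ : G) ≠ 1 := fun h => hγ (Subtype.ext h)
    have hgen : Subgroup.zpowers (γ : G) = Subgroup.zpowers b :=
      Subgroup.eq_of_le_of_card_ge (Subgroup.zpowers_le.mpr γ.2) (by
        rw [Nat.card_zpowers, Nat.card_zpowers, hord]
        refine (orderOf_eq_prime ?_ hγ1).ge
        obtain ⟨k, hk⟩ := Subgroup.mem_zpowers_iff.mp γ.2
        rw [← hk, ← zpow_natCast, ← zpow_mul, mul_comm, zpow_mul, zpow_natCast, hb, one_zpow])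
    have hbr : b ∈ Subgroup.centralizer ({(r : G)} : Set G) := by
      have : Subgroup.zpowers (γ : G) ≤ Subgroup.centralizer ({(r : G)} : Set G) :=
        Subgroup.zpowers_le.mpr (Subgroup.mem_centralizer_singleton_iff.mpr
          (mul_inv_eq_iff_eq_mul.mp h1))
      exact this (by rw [hgen]; exact Subgroup.mem_zpowers b)
    exact Subtype.ext (hfpf r r.2 (Subgroup.mem_centralizer_singleton_iff.mp hbr))
  haveI : Fintype (Subgroup.zpowers b) := Fintype.ofFinite _
  haveI : Fintype Q := Fintype.ofFinite _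
  have hR : ∀ w : Abelianization U, ∏ r, φ r w = 1 := by
    let T : Abelianization U →* Abelianization U :=
      { toFun := fun w => ∏ r, φ r w
        map_one' := by simp
        map_mul' := fun x y => by simp [Finset.prod_mul_distrib] }
    have hker : ⁅U, Q⁆ ≤ (T.comp Abelianization.of).ker.map U.subtype := by
      rw [Subgroup.commutator_le]
      intro u hu q hq
      have hqu : q * u⁻¹ * q⁻¹ ∈ U :=
        (Subgroup.mem_normalizer_iff.mp (hQU hq) _).mp (inv_mem hu)
      refine ⟨⟨u, hu⟩ * ⟨_, hqu⟩, ?_, ?_⟩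
      · show T (Abelianization.of (⟨u, hu⟩ * ⟨_, hqu⟩)) = 1
        rw [map_mul, map_mul]
        have h1 : Abelianization.of (⟨_, hqu⟩ : U) = φ ⟨q, hq⟩ (Abelianization.of (⟨u, hu⟩ : U)⁻¹) :=
          congrArg Abelianization.of (Subtype.ext rfl)
        rw [h1]
        show T _ * (∏ r, φ r (φ ⟨q, hq⟩ _)) = 1
        rw [Fintype.prod_equiv (Equiv.mulRight (⟨q, hq⟩ : Q)) _
          (fun r => φ r (Abelianization.of (⟨u, hu⟩ : U)⁻¹))
          fun r => by rw [Equiv.coe_mulRight, map_mul, MulAut.mul_apply]]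
        show T _ * T _ = 1
        rw [← map_mul, ← map_mul, mul_inv_cancel, map_one, map_one]
      · show u * (q * u⁻¹ * q⁻¹) = ⁅u, q⁆
        rw [commutatorElement_def]; group
    intro w
    obtain ⟨u, rfl⟩ := QuotientGroup.mk_surjective w
    obtain ⟨u', hu', he⟩ := Subgroup.mem_map.mp (hker (show (u : G) ∈ ⁅U, Q⁆ by rw [hUQ]; exact u.2))
    obtain rfl : u' = u := Subtype.ext he
    exact hu'
  have hUp : ∀ (n : ℕ), ¬ p ∣ n → ∀ w : Abelianization U, w ^ n = 1 → w = 1 := by
    intro n hn w hw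
    have hV : IsPGroup p (Abelianization U) :=
      hU.of_surjective Abelianization.of QuotientGroup.mk_surjective
    exact (hV.powEquiv (hp.out.coprime_iff_not_dvd.mpr hn)).injective
      (show w ^ n = 1 ^ n by rw [hw, one_pow])
  have hcard : ¬ p ∣ Fintype.card Q := by rwa [← Nat.card_eq_fintype_card]
  by_cases hD1 : ⁅U, U⁆ = ⊥
  · obtain ⟨d, hd, hd1, hdb⟩ := exists_fixed_ne_one U hU hU1 b hbU (k := 1) (by simpa using hord)
    obtain ⟨m, hm⟩ := hU ⟨d, hd⟩
    obtain ⟨i, -, hi⟩ := (Nat.dvd_prime_pow hp.out).mp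
      (orderOf_dvd_of_pow_eq_one (congrArg Subtype.val hm))
    have hi0 : i ≠ 0 := by rintro rfl; exact hd1 (orderOf_eq_one_iff.mp hi)
    set d' := d ^ p ^ (i - 1)
    have hd'p : d' ^ p = 1 := by
      rw [← pow_mul, ← pow_succ, Nat.sub_add_cancel (Nat.pos_of_ne_zero hi0), ← hi,
        pow_orderOf_eq_one]
    have hd'1 : d' ≠ 1 := by
      intro h
      have := Nat.le_of_dvd (pow_pos hp.out.pos _) (orderOf_dvd_of_pow_eq_one h)
      rw [hi] at this
      exact absurd this (Nat.not_le.mpr (Nat.pow_lt_pow_right hp.out.one_lt (by omega)))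
    have hd'U : d' ∈ U := pow_mem hd _
    obtain ⟨j, hj⟩ := hfix d' hd'U hd'p ((show Commute b d from hdb).pow_right _).eq
    have hd'Q : ∀ q ∈ Q, q * d' = d' * q := fun q hq =>
      hj ▸ ((show Commute q z from hzQ q hq).zpow_right j).eq
    have hfixed : ∀ r : Q, φ r (Abelianization.of (⟨d', hd'U⟩ : U)) = Abelianization.of ⟨d', hd'U⟩ :=
      fun r => congrArg Abelianization.of (Subtype.ext (mul_inv_eq_iff_eq_mul.mpr (hd'Q r r.2)))
    have h1 := hR (Abelianization.of (⟨d', hd'U⟩ : U))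
    rw [Finset.prod_eq_pow_card (b := Abelianization.of (⟨d', hd'U⟩ : U)) fun r _ => hfixed r,
      Finset.card_univ] at h1
    have h2 := hUp _ hcard _ h1
    have h4 : ((⟨d', hd'U⟩ : U) : G) ∈ (commutator U).map U.subtype :=
      Subgroup.mem_map_of_mem _ ((QuotientGroup.eq_one_iff _).mp h2)
    rw [commutator_def, Subgroup.map_commutator, ← MonoidHom.range_eq_map, U.range_subtype,
      hD1] at h4
    exact hd'1 (Subgroup.mem_bot.mp h4)
  -- the commutator pairing
  have hcen : ∀ u v : U, ⁅u, v⁆ ∈ Subgroup.center U := by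
    intro u v
    rw [Subgroup.mem_center_iff]
    intro w
    exact Subtype.ext (hDc _ (Subgroup.commutator_mem_commutator u.2 v.2) w w.2)
  letI : CommGroup (Subgroup.center U) :=
    { (inferInstance : Group (Subgroup.center U)) with
      mul_comm := fun a c => Subtype.ext (Subgroup.mem_center_iff.mp c.2 a.1) }
  let cb : Subgroup.center U →* Subgroup.center U :=
    { toFun := fun d => ⟨Subgroup.normalizerMonoidHom U ⟨b, hbU⟩ d.1, by
        rw [Subgroup.mem_center_iff]
        intro w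
        obtain ⟨w', rfl⟩ := (Subgroup.normalizerMonoidHom U ⟨b, hbU⟩).surjective w
        rw [← map_mul, ← map_mul, Subgroup.mem_center_iff.mp d.2 w']⟩
      map_one' := Subtype.ext (map_one _)
      map_mul' := fun x y => Subtype.ext (map_mul _ _ _) }
  let ε : Subgroup.center U →* Subgroup.center U :=
    { toFun := fun d => d⁻¹ * cb d
      map_one' := by simp
      map_mul' := fun x y => by rw [map_mul, mul_inv, mul_mul_mul_comm] }
  set DZ : Subgroup (Subgroup.center U) := (commutator U).subgroupOf (Subgroup.center U) with hDZ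
  set E : Subgroup (Subgroup.center U) := DZ.map ε with hE
  let π := QuotientGroup.mk' E
  have hcom1 : ∀ u v w : U, ⁅u, v * w⁆ = ⁅u, v⁆ * ⁅u, w⁆ := by
    intro u v w
    have h := Subgroup.mem_center_iff.mp (hcen u w) v
    calc ⁅u, v * w⁆ = ⁅u, v⁆ * (v * ⁅u, w⁆) * v⁻¹ := by simp only [commutatorElement_def]; group
      _ = ⁅u, v⁆ * ⁅u, w⁆ := by rw [h]; group
  have hcom2 : ∀ u v w : U, ⁅u * v, w⁆ = ⁅u, w⁆ * ⁅v, w⁆ := by
    intro u v w
    have h := Subgroup.mem_center_iff.mp (hcen v w) u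
    calc ⁅u * v, w⁆ = (u * ⁅v, w⁆) * u⁻¹ * ⁅u, w⁆ := by simp only [commutatorElement_def]; group
      _ = ⁅u, w⁆ * ⁅v, w⁆ := by
        rw [h, mul_inv_cancel_right]
        exact Subgroup.mem_center_iff.mp (hcen u w) ⁅v, w⁆
  let f0 : U → (U →* (Subgroup.center U ⧸ E)) := fun u =>
    MonoidHom.mk' (fun v => π ⟨⁅u, v⁆, hcen u v⟩) fun v w => by
      rw [← map_mul]; exact congrArg π (Subtype.ext (hcom1 u v w))
  let f1 : U →* (Abelianization U →* (Subgroup.center U ⧸ E)) :=
    MonoidHom.mk' (fun u => Abelianization.lift (f0 u)) fun u v => by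
      apply Abelianization.hom_ext
      ext w
      show π _ = π _ * π _
      rw [← map_mul]; exact congrArg π (Subtype.ext (hcom2 u v w))
  let f : Abelianization U →* Abelianization U →* (Subgroup.center U ⧸ E) := Abelianization.lift f1
  have hf : ∀ u v : U, f (Abelianization.of u) (Abelianization.of v) = π ⟨⁅u, v⁆, hcen u v⟩ :=
    fun u v => rfl
  have hDmem : ∀ u v : U, ⁅u, v⁆ ∈ commutator U := fun u v => by
    rw [commutator_def]; exact Subgroup.commutator_mem_commutator (Subgroup.mem_top u) (Subgroup.mem_top v)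
  have hinvb : ∀ (k : ℕ) (u v : U),
      π ⟨⁅(Subgroup.normalizerMonoidHom U ⟨b, hbU⟩ ^ k) u,
        (Subgroup.normalizerMonoidHom U ⟨b, hbU⟩ ^ k) v⁆, hcen _ _⟩ = π ⟨⁅u, v⁆, hcen u v⟩ := by
    intro k
    induction k with
    | zero => intro u v; rfl
    | succ k ih' =>
      intro u v
      rw [← ih' u v]
      have h1 : ε ⟨_, hcen ((Subgroup.normalizerMonoidHom U ⟨b, hbU⟩ ^ k) u)
          ((Subgroup.normalizerMonoidHom U ⟨b, hbU⟩ ^ k) v)⟩ ∈ E :=
        Subgroup.mem_map_of_mem ε (Subgroup.mem_subgroupOf.mpr (hDmem _ _))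
      refine (QuotientGroup.eq.mpr ?_).symm
      convert h1 using 1
      refine congrArg (fun t => (⟨_, hcen _ _⟩ : Subgroup.center U)⁻¹ * t) (Subtype.ext ?_)
      show _ = Subgroup.normalizerMonoidHom U ⟨b, hbU⟩ _
      rw [map_commutatorElement, pow_succ']
      rfl
  have hC : ∀ n : ℕ, ¬ p ∣ n → ∀ c : Subgroup.center U ⧸ E, c ^ n = 1 → c = 1 := fun n hn c hc =>
    (((hU.to_subgroup (Subgroup.center U)).to_quotient E).powEquiv
      (hp.out.coprime_iff_not_dvd.mpr hn)).injective (show c ^ n = 1 ^ n by rw [hc, one_pow])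
  have halt : ∀ v, f v v = 1 := by
    intro v
    obtain ⟨u, rfl⟩ := QuotientGroup.mk_surjective v
    refine (hf u u).trans ?_
    rw [show (⟨⁅u, u⁆, hcen u u⟩ : Subgroup.center U) = 1 from Subtype.ext (commutatorElement_self u),
      map_one]
  have hfΓ : ∀ γ u v, f (ψ γ u) (ψ γ v) = f u v := by
    intro γ u v
    obtain ⟨x, rfl⟩ := QuotientGroup.mk_surjective u
    obtain ⟨y, rfl⟩ := QuotientGroup.mk_surjective v
    obtain ⟨k, hk⟩ := (mem_powers_iff_mem_zpowers.mpr γ.2 : (γ : G) ∈ Submonoid.powers b)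
    have hγ : Subgroup.normalizerMonoidHom U (Subgroup.inclusion hA γ) =
        Subgroup.normalizerMonoidHom U ⟨b, hbU⟩ ^ k := by
      rw [← map_pow]; exact congrArg _ (Subtype.ext (by simpa using hk.symm))
    refine (hf (Subgroup.normalizerMonoidHom U (Subgroup.inclusion hA γ) x)
      (Subgroup.normalizerMonoidHom U (Subgroup.inclusion hA γ) y)).trans ?_
    refine Eq.trans ?_ ((hinvb k x y).trans (hf x y).symm)
    exact congrArg π (Subtype.ext (by rw [hγ]))
  have hfR : ∀ r u v, f (φ r u) (φ r v) = f u v := by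
    intro r u v
    obtain ⟨x, rfl⟩ := QuotientGroup.mk_surjective u
    obtain ⟨y, rfl⟩ := QuotientGroup.mk_surjective v
    refine (hf (Subgroup.normalizerMonoidHom U (Subgroup.inclusion hQU r) x)
      (Subgroup.normalizerMonoidHom U (Subgroup.inclusion hQU r) y)).trans ?_
    refine (congrArg π (Subtype.ext ?_)).trans (hf x y).symm
    show ⁅_, _⁆ = ⁅x, y⁆
    rw [← map_commutatorElement]
    refine Subtype.ext ?_
    show (r : G) * ((⁅x, y⁆ : U) : G) * (r : G)⁻¹ = _
    rw [mul_inv_eq_iff_eq_mul]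
    exact Subgroup.mem_centralizer_iff.mp
      (hDQ (Subgroup.commutator_mem_commutator x.2 y.2)) r r.2
  -- `C_U(b)` is cyclic
  set K : Subgroup G := U ⊓ Subgroup.centralizer ({b} : Set G) with hK
  have hKc : IsCyclic K := by
    refine QdRankTwo.isCyclic_of_unique hp2 (hU.to_le inf_le_left) fun x y hx hy hx1 => ?_
    have hmem : ∀ w : K, w ^ p = 1 → (w : G) ∈ Subgroup.zpowers z := fun w hw =>
      hfix w (Subgroup.mem_inf.mp w.2).1 (congrArg Subtype.val hw)
        (Subgroup.mem_centralizer_singleton_iff.mp (Subgroup.mem_inf.mp w.2).2).symm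
    have hx1' : (x : G) ≠ 1 := fun h => hx1 (Subtype.ext h)
    have hzx : Subgroup.zpowers (x : G) = Subgroup.zpowers z :=
      Subgroup.eq_of_le_of_card_ge (Subgroup.zpowers_le.mpr (hmem x hx)) (by
        rw [Nat.card_zpowers, Nat.card_zpowers,
          orderOf_eq_prime (show (x : G) ^ p = 1 from congrArg Subtype.val hx) hx1']
        exact Nat.le_of_dvd hp.out.pos (orderOf_dvd_of_pow_eq_one hz))
    obtain ⟨i, hi⟩ := Subgroup.mem_zpowers_iff.mp (hzx.symm ▸ hmem y hy)
    exact Subgroup.mem_zpowers_iff.mpr ⟨i, Subtype.ext (by simpa using hi)⟩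
  obtain ⟨c0, hc0⟩ := hKc.exists_generator
  set e : Abelianization U := Abelianization.of ⟨(c0 : G), (Subgroup.mem_inf.mp c0.2).1⟩ with he
  have hzp : ∀ u : U, b * (u : G) = u * b → Abelianization.of u ∈ Subgroup.zpowers e := by
    intro u hu
    obtain ⟨i, hi⟩ := hc0 ⟨u, Subgroup.mem_inf.mpr ⟨u.2, Subgroup.mem_centralizer_singleton_iff.mpr hu.symm⟩⟩
    refine Subgroup.mem_zpowers_iff.mpr ⟨i, ?_⟩
    rw [he, ← map_zpow]
    exact congrArg Abelianization.of (Subtype.ext (by simpa using congrArg Subtype.val hi))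
  have hhe : ∀ v, f (∏ γ, ψ γ v) v = 1 → ∏ γ, ψ γ v ∈ Subgroup.zpowers e := by
    intro v
    obtain ⟨u, rfl⟩ := QuotientGroup.mk_surjective v
    have hmemU : ∀ k : ℕ, ((u : G) * b) ^ k * (b ^ k)⁻¹ ∈ U := by
      intro k
      induction k with
      | zero => simpa using one_mem U
      | succ k ih' =>
        have hck : b ^ k * (u : G) * (b ^ k)⁻¹ ∈ U :=
          (Subgroup.mem_normalizer_iff.mp (pow_mem hbU k) _).mp u.2
        have e1 : ((u : G) * b) ^ (k + 1) * (b ^ (k + 1))⁻¹ =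
            (((u : G) * b) ^ k * (b ^ k)⁻¹) * (b ^ k * (u : G) * (b ^ k)⁻¹) := by
          rw [pow_succ, pow_succ]; group
        rw [e1]; exact mul_mem ih' hck
    have hprod : ∀ k : ℕ, Abelianization.of (⟨_, hmemU k⟩ : U) =
        ∏ i ∈ Finset.range k,
          ψ (⟨b, Subgroup.mem_zpowers b⟩ ^ i) (Abelianization.of u) := by
      intro k
      induction k with
      | zero =>
        rw [Finset.prod_range_zero]
        exact (congrArg Abelianization.of (Subtype.ext (by simp))).trans (map_one _)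
      | succ k ih' =>
        rw [Finset.prod_range_succ, ← ih']
        refine Eq.trans ?_ (map_mul Abelianization.of _
          (Subgroup.normalizerMonoidHom U (Subgroup.inclusion hA (⟨b, Subgroup.mem_zpowers b⟩ ^ k)) u))
        refine congrArg Abelianization.of (Subtype.ext ?_)
        show ((u : G) * b) ^ (k + 1) * (b ^ (k + 1))⁻¹ =
          ((u : G) * b) ^ k * (b ^ k)⁻¹ * (b ^ k * (u : G) * (b ^ k)⁻¹)
        rw [pow_succ, pow_succ]; group
    set w : U := ⟨_, hmemU p⟩ with hw
    have hN : (∏ γ, ψ γ (Abelianization.of u)) = Abelianization.of w := by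
      rw [hw, hprod p, ← hord, Finset.prod_range]
      exact (Fintype.prod_equiv (finEquivZPowers (isOfFinOrder_of_finite b)) _ _ fun i =>
        congrArg (fun t => ψ t (Abelianization.of u)) (Subtype.ext (by simp [finEquivZPowers_apply]))).symm
    intro h
    change f (∏ γ, ψ γ (Abelianization.of u)) (Abelianization.of u) = 1 at h
    show ∏ γ, ψ γ (Abelianization.of u) ∈ _
    rw [hN] at h ⊢
    rw [hf] at h
    obtain ⟨d, hd, hde⟩ := Subgroup.mem_map.mp ((QuotientGroup.eq_one_iff _).mp h)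
    have hde' : ((d : U) : G)⁻¹ * (b * ((d : U) : G) * b⁻¹) = ((⁅w, u⁆ : U) : G) :=
      congrArg (fun t : Subgroup.center U => ((t : U) : G)) hde
    have hwb : b * (w : G) * b⁻¹ = (w : G) * ((⁅w, u⁆ : U) : G) := by
      have hcm : ((u : G) * b) * (w : G) = (w : G) * ((u : G) * b) := by
        simp only [hw, hb, inv_one, mul_one]
        exact ((Commute.refl ((u : G) * b)).pow_right p).eq
      have h1 : b * (w : G) * b⁻¹ = (u : G)⁻¹ * (w : G) * u := by
        calc b * (w : G) * b⁻¹ = (u : G)⁻¹ * ((u : G) * b * (w : G)) * b⁻¹ := by group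
          _ = (u : G)⁻¹ * (w : G) * u := by rw [hcm]; group
      have h2 : (w : U) * ⁅w, u⁆ = u⁻¹ * w * u := by
        have h3 := Subgroup.mem_center_iff.mp (hcen w u) u
        calc (w : U) * ⁅w, u⁆ = w * (u⁻¹ * (u * ⁅w, u⁆)) := by group
          _ = w * (u⁻¹ * (⁅w, u⁆ * u)) := by rw [h3]
          _ = w * u⁻¹ * ⁅w, u⁆ * u := by group
          _ = ⁅w, u⁆ * (w * u⁻¹) * u := by rw [← Subgroup.mem_center_iff.mp (hcen w u) (w * u⁻¹)]
          _ = ⁅w, u⁆ * w * u⁻¹ * u := by group
          _ = w * u * w⁻¹ * u⁻¹ * w := by rw [commutatorElement_def]; group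
          _ = u⁻¹ * w * u := by
            have h5 : ⁅w, u⁆ = ⁅u⁻¹, w⁆ := by
              have h4 := Subgroup.mem_center_iff.mp (hcen w u) u⁻¹
              calc ⁅w, u⁆ = u⁻¹ * ⁅w, u⁆ * u := by rw [h4]; group
                _ = ⁅u⁻¹, w⁆ := by simp only [commutatorElement_def]; group
            calc w * u * w⁻¹ * u⁻¹ * w = ⁅w, u⁆ * w := by rw [commutatorElement_def]
              _ = u⁻¹ * w * u := by rw [h5, commutatorElement_def]; group
      rw [h1]
      exact (congrArg Subtype.val h2).symm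
    have hfixd : b * ((w * (d : U)⁻¹ : U) : G) = ((w * (d : U)⁻¹ : U) : G) * b := by
      push_cast
      calc b * ((w : G) * ((d : U) : G)⁻¹) = (b * (w : G) * b⁻¹) * (b * ((d : U) : G) * b⁻¹)⁻¹ * b := by group
        _ = (w : G) * ((d : U) : G)⁻¹ * b := by
          rw [hwb, ← hde']; group
    have h6 := hzp _ hfixd
    rwa [map_mul, show Abelianization.of ((d : U)⁻¹) = 1 from
      (QuotientGroup.eq_one_iff _).mpr (inv_mem (Subgroup.mem_subgroupOf.mp hd)), mul_one] at h6
  have htriv := pairing_trivial (fun c hc => hC 2 (fun h => hp2 ((Nat.prime_dvd_prime_iff_eq hp.out Nat.prime_two).mp h)) c (by rw [pow_two]; exact hc))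
    (hC _ hcard) ψ φ σ hcompat hfpf' hR f halt hfΓ hfR e hhe
  -- so `ε` is bijective on `U'`, against the fixed point
  have hDle : DZ ≤ E := by
    have h7 : ∀ x ∈ commutator U, ∃ hx : x ∈ Subgroup.center U, (⟨x, hx⟩ : Subgroup.center U) ∈ E := by
      intro x hx
      rw [commutator_eq_closure] at hx
      induction hx using Subgroup.closure_induction with
      | mem x hx =>
        obtain ⟨g₁, g₂, rfl⟩ := hx
        exact ⟨hcen g₁ g₂, (QuotientGroup.eq_one_iff _).mp ((hf g₁ g₂).symm.trans (htriv _ _))⟩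
      | one => exact ⟨one_mem _, one_mem E⟩
      | mul x y _ _ ihx ihy => exact ⟨mul_mem ihx.1 ihy.1, mul_mem ihx.2 ihy.2⟩
      | inv x _ ihx => exact ⟨inv_mem ihx.1, inv_mem ihx.2⟩
    intro x hx
    obtain ⟨_, h8⟩ := h7 _ (Subgroup.mem_subgroupOf.mp hx)
    exact h8
  obtain ⟨d, hd, hd1, hdb⟩ := exists_fixed_ne_one ⁅U, U⁆ (hU.to_le hDU) hD1 b
    (hcomm_norm _ _ b hbU hbU) (k := 1) (by simpa using hord)
  have hdU : (⟨d, hDU hd⟩ : U) ∈ commutator U := by
    rw [← Subgroup.mem_map_iff_mem U.subtype_injective, commutator_def, Subgroup.map_commutator,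
      ← MonoidHom.range_eq_map, U.range_subtype]
    exact hd
  have hdc : (⟨d, hDU hd⟩ : U) ∈ Subgroup.center U :=
    Subgroup.mem_center_iff.mpr fun w => Subtype.ext (hDc d hd w w.2)
  have hεd : ε ⟨_, hdc⟩ = 1 := by
    have hfb : cb ⟨_, hdc⟩ = ⟨_, hdc⟩ :=
      Subtype.ext (Subtype.ext (mul_inv_eq_iff_eq_mul.mpr hdb))
    show _⁻¹ * cb _ = 1
    rw [hfb, inv_mul_cancel]
  have hmap : DZ.map ε = DZ := (Subgroup.eq_of_le_of_card_ge hDle (Nat.le_of_dvd Nat.card_pos (Subgroup.card_map_dvd DZ ε))).symm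
  have hinj : Set.InjOn ε (DZ : Set (Subgroup.center U)) := by
    refine Set.injOn_of_ncard_image_eq ?_ (Set.toFinite _)
    rw [← Subgroup.coe_map, hmap]
  have h9 := hinj (show (⟨_, hdc⟩ : Subgroup.center U) ∈ DZ from Subgroup.mem_subgroupOf.mpr hdU)
    (one_mem DZ) (by rw [hεd, map_one])
  exact hd1 (congrArg (fun t : Subgroup.center U => ((t : U) : G)) h9)

end Cfsg.Agent.Lib.Tech42.CyclicFixed
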