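import Cfsg.Agent.Lib.PLocal.PStable
import Cfsg.Agent.Lib.OddOrder.Fitting
import Cfsg.Agent.Lib.Coprime.Commutator
import Cfsg.Agent.Lib.CharP.Basic
import Cfsg.Agent.Lib.Cores.Pi
import Cfsg.Agent.Lib.Hall.Basic
import Cfsg.Prelude.Def_OddOrderLocal

/-!
# Quadratic elements of solvable groups centralizing a self-centralizing subgroup

Owner: helper42.  Namespace `Cfsg.Agent.Lib.Tech42.SCNHall`.
* `exists_stable`: `p >= 5`, quadratic on `O_p`;
* `mem_fitting_of_quad`.
-/

set_option autoImplicit false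
set_option linter.style.haveILetI false
open scoped commutatorElement

namespace Cfsg.Agent.Lib.Tech42.SCNHall

open Cfsg.Agent.Lib

variable {X : Type*} [Group X] [Finite X] [Group.IsSolvable X]

/-- A quadratic element on `O_q(X)` lies in a normal subgroup whose `q'`-elements centralize `O_q(X)`. -/
theorem exists_stable {q : ℕ} [Fact q.Prime] (hq : 5 ≤ q) {c : X}
    (hc : ⁅⁅Cfsg.pCore q X, Subgroup.zpowers c⁆, Subgroup.zpowers c⁆ = ⊥) :
    ∃ D : Subgroup X, D.Normal ∧ c ∈ D ∧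
      ∀ d ∈ D, (orderOf d).Coprime q → d ∈ Subgroup.centralizer (Cfsg.pCore q X : Set X) := by
  haveI : ((frattini ↥(Cfsg.pCore q X)).map (Cfsg.pCore q X).subtype).Normal :=
    Cores.normal_map_subtype (Cfsg.pCore q X) (frattini ↥(Cfsg.pCore q X))
  obtain ⟨D, hD, hCD, ⟨k, hk⟩, hcD⟩ := (PLocal.isActionPStable_of_noSLTwo (G := X) (p := q) (by omega)
    (PLocal.noSLTwo_of_isPSolvable hq PSolvable.isPSolvable_of_isSolvable)).2.1 c (hc.le.trans bot_le)
  set K := Cfsg.sectionKernel (Cfsg.pCore q X) ((frattini ↥(Cfsg.pCore q X)).map (Cfsg.pCore q X).subtype)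
    with hK
  haveI := hD
  haveI : K.Normal := by
    haveI : ((Cfsg.pCore q X).map (QuotientGroup.mk' ((frattini ↥(Cfsg.pCore q X)).map
      (Cfsg.pCore q X).subtype))).Normal :=
      Subgroup.Normal.map inferInstance _ (QuotientGroup.mk'_surjective _)
    exact Subgroup.Normal.comap inferInstance _
  refine ⟨D, hD, hcD, fun d hd hdq => ?_⟩
  have hdK : d ∈ K := by
    have h1 : QuotientGroup.mk' (K.subgroupOf D) ⟨d, hd⟩ = 1 := by
      rw [← orderOf_eq_one_iff]
      refine Nat.eq_one_of_dvd_coprimes (hdq.pow_right k) ((orderOf_map_dvd _ _).trans ?_) ?_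
      · rw [Subgroup.orderOf_mk]
      · rw [← hk, Subgroup.relIndex, Subgroup.index_eq_card]
        exact orderOf_dvd_natCard _
    exact (QuotientGroup.eq_one_iff (⟨d, hd⟩ : ↥D)).1 h1
  refine Coprime.le_centralizer_of_frattini (A := Subgroup.zpowers d) ?_ ?_ ?_ (Subgroup.mem_zpowers d)
  · rw [Subgroup.normalizer_eq_top]; exact le_top
  · obtain ⟨m, hm⟩ := IsPGroup.iff_card.1
      ((Cores.pCore_isPGroup (G := X) q).to_subgroup (frattini ↥(Cfsg.pCore q X)))
    rw [Nat.card_zpowers, hm]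
    exact hdq.pow_right m
  · intro a ha u hu
    have haK : a ∈ K := Subgroup.zpowers_le.2 hdK ha
    have h2 := Subgroup.mem_centralizer_iff.1 haK _ (Subgroup.mem_map_of_mem _ hu)
    refine (QuotientGroup.eq_one_iff _).1 ?_
    show QuotientGroup.mk' _ (a * u * a⁻¹ * u⁻¹) = 1
    rw [map_mul, map_mul, map_mul, map_inv, map_inv, ← h2]
    group

theorem mem_centralizer_fitting {x : X}
    (h : ∀ (r : ℕ) [Fact r.Prime], ∀ u ∈ Cfsg.pCore r X, Commute x u) :
    x ∈ Cfsg.fittingOf (⊤ : Subgroup X) := by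
  haveI : Group.IsSolvable ↥(⊤ : Subgroup X) :=
    solvable_of_solvable_injective (f := (⊤ : Subgroup X).subtype) Subtype.val_injective
  refine OddOrder.Fitting.inf_centralizer_fittingOf_le ⊤ ⟨Subgroup.mem_top x, ?_⟩
  refine OddOrder.Fitting.mem_centralizer_fittingOf fun r _ _ u hu => ?_
  rw [CharP.pCoreOf_top] at hu
  exact h r u hu

/-- An element of `q`-power order acting quadratically on each `O_r(X)` lies in `F(X)`. -/
theorem mem_fitting_of_quad {q : ℕ} [hq : Fact q.Prime] (hq5 : 5 ≤ q)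
    (h5 : ∀ r : ℕ, r.Prime → Cfsg.pCore r X ≠ ⊥ → 5 ≤ r) {c : X} {k : ℕ} (hc : orderOf c = q ^ k)
    (hquad : ∀ r : ℕ, r.Prime → ⁅⁅Cfsg.pCore r X, Subgroup.zpowers c⁆, Subgroup.zpowers c⁆ = ⊥) :
    c ∈ Cfsg.fittingOf (⊤ : Subgroup X) := by
  classical
  obtain ⟨Dq, hDq, hcDq, hDq'⟩ := exists_stable hq5 (hquad q hq.out)
  set M : Subgroup X := ⨅ r : {r : ℕ // r.Prime ∧ r ≠ q}, Subgroup.centralizer (Cfsg.pCore r.1 X : Set X)
    with hM
  haveI : M.Normal := Subgroup.normal_iInf_normal fun r => inferInstance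
  haveI := hDq
  set N := M ⊓ Dq with hN
  have hcM : c ∈ M := by
    refine Subgroup.mem_iInf.2 fun r => ?_
    haveI := Fact.mk r.2.1
    rcases eq_or_ne (Cfsg.pCore r.1 X) ⊥ with hb | hb
    · rw [hb]; exact Subgroup.mem_centralizer_iff.2 fun u hu => by rw [Subgroup.mem_bot.1 hu, one_mul, mul_one]
    · obtain ⟨D, -, hcD, hD⟩ := exists_stable (h5 _ r.2.1 hb) (hquad r.1 r.2.1)
      refine hD c hcD ?_
      rw [hc]
      exact ((Nat.coprime_primes hq.out r.2.1).2 r.2.2.symm).pow_left k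
  have hcomm : ∀ n ∈ N, ∀ (r : ℕ), r.Prime → r ≠ q → ∀ u ∈ Cfsg.pCore r X, Commute n u := fun n hn r hr hrq u hu =>
    (Subgroup.mem_centralizer_iff.1 (Subgroup.mem_iInf.1 hn.1 ⟨r, hr, hrq⟩) u hu).symm
  -- `q'`-elements of `N` are central in `N`
  have hcen : ∀ x ∈ N, (orderOf x).Coprime q → ∀ n ∈ N, Commute n x := by
    intro x hx hxq n hn
    have hxF : x ∈ Cfsg.fittingOf (⊤ : Subgroup X) := by
      refine mem_centralizer_fitting fun r hr u hu => ?_
      rcases eq_or_ne r q with rfl | hrq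
      · exact (Subgroup.mem_centralizer_iff.1 (hDq' x hx.2 hxq) u hu).symm
      · exact hcomm x hx r hr.out hrq u hu
    refine (Subgroup.mem_centralizer_iff.1 (OddOrder.Fitting.mem_centralizer_of_primary (M := Subgroup.zpowers x)
      (H := ⊤) (Subgroup.zpowers_le.2 hxF) fun r hr _ m hm => ?_) x (Subgroup.mem_zpowers x)).symm
    rw [CharP.pCoreOf_top] at hm
    rcases eq_or_ne r q with rfl | hrq
    · have hm1 : m = 1 := by
        obtain ⟨i, hi⟩ := Cores.pCore_isPGroup (G := X) r ⟨m, hm.2⟩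
        rw [← orderOf_eq_one_iff]
        refine Nat.eq_one_of_dvd_coprimes (hxq.pow_right i) ?_ (orderOf_dvd_of_pow_eq_one (congrArg Subtype.val hi :))
        rw [← Nat.card_zpowers x]
        exact Subgroup.orderOf_dvd_natCard _ hm.1
      rw [hm1]; exact Commute.one_right n
    · exact hcomm n hn r hr.out hrq m hm.2
  have hnil : Group.IsNilpotent ↥N := by
    haveI : Group.IsNilpotent (↥N ⧸ Subgroup.center ↥N) := by
      refine IsPGroup.isNilpotent (p := q) ?_
      intro u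
      obtain ⟨u, rfl⟩ := QuotientGroup.mk'_surjective _ u
      obtain ⟨i, m, hm, hu⟩ := Nat.exists_eq_pow_mul_and_not_dvd (orderOf_pos u).ne' q hq.out.ne_one
      refine ⟨i, ?_⟩
      rw [← map_pow]
      refine (QuotientGroup.eq_one_iff _).2 (Subgroup.mem_center_iff.2 fun n => Subtype.ext ?_)
      refine (hcen _ (u ^ q ^ i).2 ?_ n n.2).eq
      rw [Subgroup.orderOf_coe, orderOf_pow, hu, Nat.gcd_eq_right (dvd_mul_right _ _),
        Nat.mul_div_cancel_left _ (pow_pos hq.out.pos i)]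
      exact ((hq.out.coprime_iff_not_dvd).2 hm).symm
    exact Group.of_quotient_center_nilpotent inferInstance
  exact OddOrder.Fitting.le_fittingOf le_top (by rw [Subgroup.normalizer_eq_top]) hnil
    (show c ∈ N from ⟨hcM, hcDq⟩)

end Cfsg.Agent.Lib.Tech42.SCNHall
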