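import Mathlib.GroupTheory.Sylow
import Cfsg.Prelude.Def_Local
import Cfsg.Agent.Lib.Balance.LBalance
import Cfsg.Agent.Lib.Balance.LocalBalance
import Cfsg.Agent.Lib.Involutions.StronglyEmbedded

/-!
# Two conjugates of a tightly embedded subgroup

Owner: helper42.  Namespace `Cfsg.Agent.Lib.Tech42.TightPair`.
* `sylow_inf`: a Sylow subgroup meets a normalized subgroup in a Sylow subgroup;
* `half`: `T` embeds in the centralizer of `T` in an invariant Sylow subgroup of the other conjugate;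
* `invariant_sylow`: a Sylow subgroup invariant under a `2`-group.
-/

set_option autoImplicit false
set_option linter.style.haveILetI false

namespace Cfsg.Agent.Lib.Tech42.TightPair

open Cfsg.Agent.Lib

variable {G : Type*} [Group G] [Finite G]

/-- The intersection of a Sylow subgroup of `X` with a subgroup normalized by `X`. -/
theorem sylow_inf {p : ℕ} [Fact p.Prime] {R Q X : Subgroup G} (hR : IsPGroup p ↥R) (hRX : R ≤ X)
    (hQX : Q ≤ X) (hXQ : X ≤ Subgroup.normalizer (Q : Set G)) (hi : ¬ p ∣ R.relIndex X) :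
    ¬ p ∣ (R ⊓ Q).relIndex Q := by
  haveI : (Q.subgroupOf X).Normal := Subgroup.normal_subgroupOf_of_le_normalizer hXQ
  obtain ⟨S, hS⟩ := Balance.exists_sylow_inf_normal
    ((hR.comap_of_injective X.subtype X.subtype_injective).toSylow hi) (Q.subgroupOf X)
  have h := S.not_dvd_index
  rw [hS] at h
  rw [Subgroup.inf_relIndex_right, ← Subgroup.relIndex_subgroupOf hQX]
  exact h

omit [Finite G] in
theorem eq_one_of_odd {K : Subgroup G} (hK : Odd (Nat.card ↥K)) {P : Subgroup G} (hP : IsPGroup 2 ↥P)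
    {u : G} (huK : u ∈ K) (huP : u ∈ P) : u = 1 := by
  obtain ⟨k, hk⟩ := hP ⟨u, huP⟩
  rw [← orderOf_eq_one_iff]
  refine Nat.eq_one_of_dvd_coprimes ((Nat.coprime_two_left.2 hK).pow_left k) ?_
    (Subgroup.orderOf_dvd_natCard _ huK)
  exact orderOf_dvd_of_pow_eq_one (congrArg Subtype.val hk :)

/-- A `2`-group `T` normalizing `Q` has an invariant Sylow subgroup of `Q` whose join with `T` contains a given one. -/
theorem invariant_sylow {Q T : Subgroup G} (hT : IsPGroup 2 ↥T) (hTQ : T ≤ Subgroup.normalizer (Q : Set G)) :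
    ∃ P : Subgroup G, IsPGroup 2 ↥P ∧ P ≤ Q ∧ ¬ 2 ∣ P.relIndex Q ∧ T ≤ Subgroup.normalizer (P : Set G) := by
  obtain ⟨R, hR⟩ := (hT.comap_of_injective (Q ⊔ T).subtype (Q ⊔ T).subtype_injective).exists_le_sylow
  refine ⟨(R : Subgroup ↥(Q ⊔ T)).map (Q ⊔ T).subtype ⊓ Q, (R.isPGroup'.map _).to_le inf_le_left, inf_le_right,
    sylow_inf (R.isPGroup'.map _) (Subgroup.map_subtype_le _) le_sup_left
      (sup_le Subgroup.le_normalizer hTQ) ?_, fun t ht => ?_⟩
  · rw [Subgroup.relIndex, ← Subgroup.comap_subtype, Subgroup.comap_map_eq_self_of_injective (Subgroup.subtype_injective _)]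
    exact R.not_dvd_index
  · have h1 : t ∈ (R : Subgroup ↥(Q ⊔ T)).map (Q ⊔ T).subtype :=
      ⟨⟨t, Subgroup.mem_sup_right ht⟩, hR ht, rfl⟩
    exact Subgroup.mem_normalizer_iff.2 fun u => and_congr
      (Subgroup.mem_normalizer_iff.1 (Subgroup.le_normalizer h1) u) (Subgroup.mem_normalizer_iff.1 (hTQ ht) u)

theorem decomp {P T : Subgroup G} (hTP : T ≤ Subgroup.normalizer (P : Set G)) {s : G} (hs : s ∈ P ⊔ T) :
    ∃ a ∈ P, ∃ t ∈ T, s = a * t := Balance.decomp_sup hTP hs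

/-- `T` embeds in `C_P(T)`. -/
theorem half {Q1 Q2 T P : Subgroup G}
    (hTE : ∀ a : G, Q2.map (MulAut.conj a).toMonoidHom ≠ Q2 →
      Odd (Nat.card ↥(Q2 ⊓ Q2.map (MulAut.conj a).toMonoidHom)))
    (hodd : Odd (Nat.card ↥(Q1 ⊓ Q2))) (hT : IsPGroup 2 ↥T) (hTQ2 : T ≤ Q2)
    (hP : IsPGroup 2 ↥P) (hPQ1 : P ≤ Q1) (hTP : T ≤ Subgroup.normalizer (P : Set G))
    (hemb : ∃ f : ↥T →* ↥P, Function.Injective f) :
    ∃ f : ↥T →* ↥(P ⊓ Subgroup.centralizer (T : Set G)), Function.Injective f := by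
  set W := P ⊓ Subgroup.centralizer (T : Set G) with hW
  have hWT : W ≤ Subgroup.normalizer (T : Set G) :=
    inf_le_right.trans (Subgroup.centralizer_le_normalizer _)
  have hdis : ∀ u ∈ P, u ∈ Q2 → u = 1 := fun u hu hu2 => eq_one_of_odd hodd hP ⟨hPQ1 hu, hu2⟩ hu
  have hTWdec : ∀ u ∈ T ⊔ W, ∃ t ∈ T, ∃ w ∈ W, u = t * w := fun u hu => decomp hWT hu
  by_cases hall : P ≤ T ⊔ W
  · obtain ⟨f, hf⟩ := hemb
    have hPW : P ≤ W := by
      intro u hu
      obtain ⟨t, ht, w, hw, rfl⟩ := hTWdec u (hall hu)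
      have htP : t ∈ P := by
        have := P.mul_mem hu (P.inv_mem hw.1)
        rwa [mul_inv_cancel_right] at this
      rw [hdis t htP (hTQ2 ht), one_mul]
      exact hw
    exact ⟨(Subgroup.inclusion hPW).comp f, (Subgroup.inclusion_injective hPW).comp hf⟩
  have hS : IsPGroup 2 ↥(P ⊔ T) := hP.to_sup_of_normal_left' hT hTP
  haveI : Group.IsNilpotent ↥(P ⊔ T) := hS.isNilpotent
  have hlt : T ⊔ W < P ⊔ T := lt_of_le_of_ne (sup_le le_sup_right (inf_le_left.trans le_sup_left))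
    fun h => hall (le_sup_left.trans h.ge)
  obtain ⟨x, ⟨hxS, hxN⟩, hxTW⟩ := SetLike.exists_of_lt (Involutions.StronglyEmbedded.lt_inf_normalizer hlt)
  -- `x` moves `T` and `Q2`
  have hxT : x ∉ Subgroup.normalizer (T : Set G) := by
    intro h
    obtain ⟨a, ha, t, ht, rfl⟩ := decomp hTP hxS
    have haN : a ∈ Subgroup.normalizer (T : Set G) := by
      have := Subgroup.mul_mem _ h (Subgroup.inv_mem _ (Subgroup.le_normalizer ht))
      rwa [mul_inv_cancel_right] at this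
    refine hxTW (Subgroup.mul_mem _ (Subgroup.mem_sup_right ⟨ha, Subgroup.mem_centralizer_iff.2 fun b hb => ?_⟩)
      (Subgroup.mem_sup_left ht))
    have h1 : a * b * a⁻¹ * b⁻¹ ∈ P := by
      rw [mul_assoc a, mul_assoc a]
      exact P.mul_mem ha ((Subgroup.mem_normalizer_iff.1 (hTP hb) _).1 (P.inv_mem ha))
    have h2 : a * b * a⁻¹ * b⁻¹ ∈ T := T.mul_mem ((Subgroup.mem_normalizer_iff.1 haN b).1 hb) (T.inv_mem hb)
    exact (mul_inv_eq_iff_eq_mul.1 (mul_inv_eq_one.1 (hdis _ h1 (hTQ2 h2)))).symm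
  have hsplit : ∀ u ∈ T, ∃ t ∈ T, ∃ w ∈ W, x * u * x⁻¹ = t * w := fun u hu =>
    hTWdec _ ((Subgroup.mem_normalizer_iff.1 hxN u).1 (Subgroup.mem_sup_left hu))
  have hxQ : Q2.map (MulAut.conj x).toMonoidHom ≠ Q2 := by
    intro h
    refine hxT (Subgroup.mem_normalizer_iff_map_conj_eq.2 (Subgroup.eq_of_le_of_card_ge ?_
      (le_of_eq (Subgroup.card_map_of_injective (f := (MulAut.conj x).toMonoidHom) (MulAut.conj x).injective).symm)))
    rintro _ ⟨u, hu, rfl⟩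
    obtain ⟨t, ht, w, hw, e⟩ := hsplit u hu
    show x * u * x⁻¹ ∈ T
    have hwQ : w ∈ Q2 := by
      have h1 : x * u * x⁻¹ ∈ Q2 := h.le ⟨u, hTQ2 hu, rfl⟩
      have := Q2.mul_mem (Q2.inv_mem (hTQ2 ht)) h1
      rwa [e, inv_mul_cancel_left] at this
    rw [e, hdis w hw.1 hwQ, mul_one]
    exact ht
  choose tc htc wc hwc htw using hsplit
  have huniq : ∀ t ∈ T, ∀ t' ∈ T, ∀ w ∈ W, ∀ w' ∈ W, t * w = t' * w' → w = w' := by
    intro t ht t' ht' w hw w' hw' h
    have e : t'⁻¹ * t = w' * w⁻¹ := by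
      rw [inv_mul_eq_iff_eq_mul, ← mul_assoc, eq_mul_inv_iff_mul_eq, h]
    have h1 := hdis _ (P.mul_mem hw'.1 (P.inv_mem hw.1))
      (e ▸ hTQ2 (T.mul_mem (T.inv_mem ht') ht))
    exact (mul_inv_eq_one.1 h1).symm
  have hmul : ∀ a b : ↥T, wc (a * b : ↥T).1 (a * b).2 = wc a a.2 * wc b b.2 := by
    intro a b
    refine huniq _ (htc _ (a * b).2) _ (T.mul_mem (htc a a.2) (htc b b.2)) _ (hwc _ _) _
      (W.mul_mem (hwc a a.2) (hwc b b.2)) ?_
    have hc : Commute (wc a a.2) (tc b b.2) :=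
      (Subgroup.mem_centralizer_iff.1 (hwc a a.2).2 _ (htc b b.2)).symm
    rw [← htw]
    calc x * ((a : G) * b) * x⁻¹ = (x * a * x⁻¹) * (x * b * x⁻¹) := by group
      _ = tc a a.2 * (wc a a.2 * tc b b.2) * wc b b.2 := by rw [htw _ a.2, htw _ b.2]; group
      _ = _ := by rw [hc.eq]; group
  refine ⟨MonoidHom.mk' (fun a : ↥T => ⟨wc a a.2, hwc a a.2⟩) fun a b => Subtype.ext (hmul a b), ?_⟩
  refine (injective_iff_map_eq_one _).2 fun a ha => Subtype.ext ?_
  have hw1 : wc a a.2 = 1 := congrArg Subtype.val ha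
  have h1 : x * a * x⁻¹ ∈ T := by rw [htw _ a.2, hw1, mul_one]; exact htc _ _
  have h2 := eq_one_of_odd (hTE x hxQ) hT ⟨hTQ2 h1, ⟨a, hTQ2 a.2, rfl⟩⟩ h1
  simpa using h2

end Cfsg.Agent.Lib.Tech42.TightPair
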