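import Cfsg.Prelude.Def_Transfer
import Cfsg.Agent.Lib.Transfer.PResidual
import Mathlib.GroupTheory.SpecificGroups.Dihedral
import Mathlib.GroupTheory.Perm.Cycle.Type

/-!
Thompson transfer by the sign of the action on cosets, and its consequence for a dihedral
supplement.

Owner: helper42.
-/

set_option autoImplicit false
set_option linter.style.haveILetI false

open Cfsg Equiv

namespace Cfsg.Agent.Lib.Tech42.TransferDihedral

variable {G : Type*} [Group G] [Finite G]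

/-- A fixed-point-free `2`-element with odd number of orbits on cosets is outside `O²(G)`. -/
theorem notMem_pResidual_two (H : Subgroup G) (y : G) {m k : ℕ} (hm : 1 ≤ m)
    (hy : y ^ 2 ^ m = 1) (hk : Odd k) (hidx : H.index = 2 ^ m * k)
    (hc : ∀ g : G, g * y ^ 2 ^ (m - 1) * g⁻¹ ∉ H) : y ∉ pResidual 2 G := by
  classical
  letI : Fintype (G ⧸ H) := Fintype.ofFinite _
  set σ : Equiv.Perm (G ⧸ H) := MulAction.toPermHom G (G ⧸ H) y with hσ
  have hfree : ∀ x : G ⧸ H, (σ ^ 2 ^ (m - 1)) x ≠ x := by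
    intro x h
    obtain ⟨g, rfl⟩ := QuotientGroup.mk_surjective x
    rw [hσ, ← map_pow] at h
    replace h : ((y ^ 2 ^ (m - 1) * g : G) : G ⧸ H) = (g : G ⧸ H) := h
    have h' : g⁻¹ * (y ^ 2 ^ (m - 1) * g) ∈ H := QuotientGroup.eq.1 h.symm
    refine hc g⁻¹ ?_
    simpa [mul_assoc] using h'
  have hsupp : σ.support = Finset.univ := by
    refine Finset.eq_univ_of_forall fun x => Equiv.Perm.mem_support.2 fun h => hfree x ?_
    exact Equiv.Perm.pow_apply_eq_self_of_apply_eq_self h _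
  have hord : orderOf σ ∣ 2 ^ m :=
    orderOf_dvd_of_pow_eq_one (by rw [hσ, ← map_pow, hy, map_one])
  have hcyc : ∀ n ∈ σ.cycleType, n = 2 ^ m := by
    intro n hn
    obtain ⟨i, him, rfl⟩ := (Nat.dvd_prime_pow Nat.prime_two).1
      ((Equiv.Perm.dvd_of_mem_cycleType hn).trans hord)
    by_contra hne
    have him' : i ≤ m - 1 := by
      rcases eq_or_ne i m with rfl | h
      · exact absurd rfl hne
      · omega
    rw [Equiv.Perm.cycleType_def, Multiset.mem_map] at hn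
    obtain ⟨τ, hτ, hτn⟩ := hn
    have hτ' : τ ∈ σ.cycleFactorsFinset := hτ
    obtain ⟨x, hx⟩ := (Equiv.Perm.mem_cycleFactorsFinset_iff.1 hτ').1.nonempty_support
    refine hfree x ?_
    rw [← Equiv.Perm.cycleOf_pow_apply_self σ x, ← Equiv.Perm.cycle_is_cycleOf hx hτ']
    have hpow : τ ^ 2 ^ (m - 1) = 1 := by
      rw [← orderOf_dvd_iff_pow_eq_one, (Equiv.Perm.mem_cycleFactorsFinset_iff.1 hτ').1.orderOf]
      exact (show τ.support.card = 2 ^ i from hτn) ▸ pow_dvd_pow 2 him'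
    rw [hpow]
    rfl
  have hcard : Multiset.card σ.cycleType = k := by
    have hsum : σ.cycleType.sum = 2 ^ m * k := by
      rw [Equiv.Perm.sum_cycleType, hsupp, Finset.card_univ, ← Nat.card_eq_fintype_card]
      exact hidx
    rw [Multiset.eq_replicate_card.2 hcyc, Multiset.sum_replicate, smul_eq_mul, mul_comm] at hsum
    exact Nat.eq_of_mul_eq_mul_left (pow_pos two_pos m) hsum
  have hsign : Equiv.Perm.sign σ = -1 := by
    rw [Equiv.Perm.sign_of_cycleType, Equiv.Perm.sum_cycleType, hsupp, hcard, Finset.card_univ,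
      ← Nat.card_eq_fintype_card]
    refine Odd.neg_one_pow ?_
    refine Even.add_odd ?_ hk
    rw [show Nat.card (G ⧸ H) = 2 ^ m * k from hidx]
    exact (Nat.even_pow.2 ⟨even_two, by omega⟩).mul_right k
  intro hmem
  haveI : Fact (Nat.Prime 2) := ⟨Nat.prime_two⟩
  have hP : IsPGroup 2 ℤˣ := fun u => ⟨1, by rw [pow_one]; exact Int.units_sq u⟩
  have h1 := Transfer.PResidual.pResidual_le_ker
    (Equiv.Perm.sign.comp (MulAction.toPermHom G (G ⧸ H))) hP hmem
  rw [MonoidHom.mem_ker, MonoidHom.comp_apply, ← hσ, hsign] at h1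
  exact absurd h1 (by decide)

omit [Finite G] in
/-- Elements of a dihedral group outside a cyclic subgroup of index two are involutions. -/
theorem orderOf_eq_two {D C : Subgroup G} [Finite ↥D]
    (hDih : ∃ n : ℕ, 2 ≤ n ∧ Nonempty (↥D ≃* DihedralGroup n)) (hCD : C ≤ D)
    (hC : IsCyclic ↥C) (hCi : C.relIndex D = 2) {x : G} (hx : x ∈ D) (hxC : x ∉ C) :
    orderOf x = 2 := by
  obtain ⟨n, hn, ⟨e⟩⟩ := hDih
  haveI : NeZero n := ⟨by omega⟩
  haveI : Fact (Nat.Prime 2) := ⟨Nat.prime_two⟩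
  have hx1 : x ≠ 1 := fun h => hxC (h ▸ one_mem C)
  have key : ∀ y : DihedralGroup n, y ^ 2 = 1 → orderOf (e.symm y) ∣ 2 := fun y hy => by
    rw [MulEquiv.orderOf_eq]; exact orderOf_dvd_of_pow_eq_one hy
  have hsr : ∀ j : ZMod n, (DihedralGroup.sr j) ^ 2 = 1 := fun j => by
    rw [pow_two, DihedralGroup.sr_mul_self]
  suffices h : (e ⟨x, hx⟩) ^ 2 = 1 by
    have := key _ h
    rw [MulEquiv.symm_apply_apply, Subgroup.orderOf_mk] at this
    rcases (Nat.dvd_prime Nat.prime_two).1 this with h | h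
    · exact absurd (orderOf_eq_one_iff.1 h) hx1
    · exact h
  have hcardD : Nat.card ↥D = 2 * n := by rw [Nat.card_congr e.toEquiv, DihedralGroup.nat_card]
  have hcardC : Nat.card ↥C = n := by
    have h := Subgroup.relIndex_mul_relIndex ⊥ C D bot_le hCD
    rw [Subgroup.relIndex_bot_left, Subgroup.relIndex_bot_left, hCi, hcardD] at h
    omega
  obtain ⟨⟨w, hw⟩, hwgen⟩ := hC.exists_generator
  have hwo : orderOf w = n := by
    rw [← hcardC, ← orderOf_eq_card_of_forall_mem_zpowers hwgen, Subgroup.orderOf_mk]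
  cases hex : e ⟨x, hx⟩ with
  | sr j => exact hsr j
  | r j =>
    cases hew : e ⟨w, hCD hw⟩ with
    | sr i =>
      have h2 : n ∣ 2 := by
        have h := key _ (hsr i)
        rwa [← hew, MulEquiv.symm_apply_apply, Subgroup.orderOf_mk, hwo] at h
      obtain rfl : n = 2 := le_antisymm (Nat.le_of_dvd two_pos h2) hn
      rw [pow_two, DihedralGroup.r_mul_r, DihedralGroup.one_def]
      exact congrArg DihedralGroup.r (CharTwo.add_self_eq_zero j)
    | r i =>
      exfalso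
      refine hxC ?_
      have hle : Subgroup.zpowers (DihedralGroup.r i) ≤
          Subgroup.zpowers (DihedralGroup.r (1 : ZMod n)) :=
        Subgroup.zpowers_le.2 ⟨(i.val : ℤ), by
          show (DihedralGroup.r (1 : ZMod n)) ^ ((i.val : ℕ) : ℤ) = _
          rw [zpow_natCast, DihedralGroup.r_one_pow, ZMod.natCast_zmod_val]⟩
      have heq := Subgroup.eq_of_le_of_card_ge hle (by
        rw [Nat.card_zpowers, Nat.card_zpowers, DihedralGroup.orderOf_r_one, ← hew,
          MulEquiv.orderOf_eq, Subgroup.orderOf_mk, hwo])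
      have hj : DihedralGroup.r j ∈ Subgroup.zpowers (DihedralGroup.r i) := by
        rw [heq]
        exact ⟨(j.val : ℤ), by
          show (DihedralGroup.r (1 : ZMod n)) ^ ((j.val : ℕ) : ℤ) = _
          rw [zpow_natCast, DihedralGroup.r_one_pow, ZMod.natCast_zmod_val]⟩
      obtain ⟨t, ht⟩ := Subgroup.mem_zpowers_iff.1 hj
      rw [← hex, ← hew, ← map_zpow] at ht
      have : w ^ t = x := congrArg Subtype.val (e.injective ht)
      exact this ▸ zpow_mem hw t

/-- A consequence of Thompson transfer. -/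
theorem exists_normal_supplement (L T S D C : Subgroup G) (hL : pResidual 2 ↥L = ⊤)
    (hTL : T ≤ L) (hTsyl : ¬ 2 ∣ T.relIndex L)
    (hS2 : IsPGroup 2 S) (hSsyl : ¬ 2 ∣ S.index) (hTS : T ≤ S)
    (hDS : D ≤ S) (hDih : ∃ n : ℕ, 2 ≤ n ∧ Nonempty (↥D ≃* DihedralGroup n)) (hDT : D ⊓ T = ⊥)
    (hTDc : Nat.card T * Nat.card D = Nat.card S)
    (hCD : C ≤ D) (hC : IsCyclic ↥C) (hCi : C.relIndex D = 2)
    (h1 : ∀ x ∈ D, x ∉ C → orderOf x = 2 → ∀ g : G, g * x * g⁻¹ ∈ T ⊔ C → False)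
    (h2 : ∀ c ∈ C, orderOf c = 2 → ∀ g : G, g * c * g⁻¹ ∈ T → False) :
    ∃ K : Subgroup G, K.Normal ∧ K ⊔ D = ⊤ ∧
      ∀ T' : Subgroup G, T' ≤ L → IsPGroup 2 T' → ¬ 2 ∣ T'.relIndex L → T' ≤ K ∧ ¬ 2 ∣ T'.relIndex K := by
  haveI : Fact (Nat.Prime 2) := ⟨Nat.prime_two⟩
  let O := pResidual 2 G
  haveI : O.Normal := Transfer.PResidual.pResidual_normal
  have hLO : L ≤ O := fun l hl => Transfer.PResidual.map_pResidual_le L.subtype
    ⟨⟨l, hl⟩, hL.symm ▸ Subgroup.mem_top (⟨l, hl⟩ : ↥L), rfl⟩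
  have hTO : T ≤ O := hTL.trans hLO
  have hrel : ∀ {A B : Subgroup G}, A ≤ B → Nat.card ↥A * A.relIndex B = Nat.card ↥B := fun {A B} h => by
    have := Subgroup.relIndex_mul_relIndex ⊥ A B bot_le h
    rwa [Subgroup.relIndex_bot_left, Subgroup.relIndex_bot_left] at this
  -- injectivity of multiplication
  have hinj : ∀ {D' : Subgroup G}, D' ≤ D →
      Function.Injective (fun q : ↥T × ↥D' => (q.1 : G) * (q.2 : G)) := by
    rintro D' hD' ⟨t, d⟩ ⟨t', d'⟩ h
    have h' : (t' : G)⁻¹ * t = (d' : G) * (d : G)⁻¹ := by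
      rw [eq_mul_inv_iff_mul_eq, mul_assoc, inv_mul_eq_iff_eq_mul]; exact h
    have hb : (d' : G) * (d : G)⁻¹ ∈ (⊥ : Subgroup G) :=
      hDT ▸ Subgroup.mem_inf.2 ⟨hD' (mul_mem d'.2 (inv_mem d.2)), h' ▸ mul_mem (inv_mem t'.2) t.2⟩
    rw [Subgroup.mem_bot] at hb
    obtain rfl : d' = d := Subtype.ext (mul_inv_eq_one.1 hb)
    exact Prod.ext (Subtype.ext (mul_right_cancel h)) rfl
  have hS : ∀ s ∈ S, ∃ t ∈ T, ∃ d ∈ D, t * d = s := by
    have hbij : Function.Bijective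
        (fun q : ↥T × ↥D => (⟨(q.1 : G) * q.2, mul_mem (hTS q.1.2) (hDS q.2.2)⟩ : ↥S)) :=
      (Nat.bijective_iff_injective_and_card _).2
        ⟨fun a b h => hinj le_rfl (congrArg Subtype.val h), by rw [Nat.card_prod, hTDc]⟩
    intro s hs
    obtain ⟨⟨t, d⟩, htd⟩ := hbij.2 ⟨s, hs⟩
    exact ⟨t, t.2, d, d.2, congrArg Subtype.val htd⟩
  have hinv : ∀ {x : G}, x ∈ D → x ∉ C → orderOf x = 2 := fun hx hxC =>
    orderOf_eq_two hDih hCD hC hCi hx hxC
  -- step 1
  have hODC : O ⊓ D ≤ C := by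
    intro x hx
    by_contra hxC
    let M := T ⊔ C
    have hMS : M ≤ S := sup_le hTS (hCD.trans hDS)
    have hxM : x ∉ M := fun h => h1 x hx.2 hxC (hinv hx.2 hxC) 1 (by simpa using h)
    have hge : Nat.card ↥T * Nat.card ↥C ≤ Nat.card ↥M := by
      rw [← Nat.card_prod]
      exact Nat.card_le_card_of_injective
        (fun q : ↥T × ↥C => (⟨(q.1 : G) * q.2,
          mul_mem (Subgroup.mem_sup_left q.1.2) (Subgroup.mem_sup_right q.2.2)⟩ : ↥M))
        fun a b h => hinj hCD (congrArg Subtype.val h)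
    have hC2 : Nat.card ↥C * 2 = Nat.card ↥D := hCi ▸ hrel hCD
    have hMrel : M.relIndex S = 2 := by
      have h := hrel hMS
      have hne : M.relIndex S ≠ 1 := fun h1' => hxM (Subgroup.relIndex_eq_one.1 h1' (hDS hx.2))
      have hne0 : M.relIndex S ≠ 0 := Subgroup.index_ne_zero_of_finite
      have hle : Nat.card ↥S ≤ Nat.card ↥M * 2 := by
        rw [← hTDc, ← hC2, ← mul_assoc]
        exact Nat.mul_le_mul_right 2 hge
      rw [← h] at hle
      have := Nat.le_of_mul_le_mul_left hle Nat.card_pos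
      omega
    refine notMem_pResidual_two M x le_rfl (by rw [pow_one, ← hinv hx.2 hxC, pow_orderOf_eq_one])
      (Nat.not_even_iff_odd.1 fun h => hSsyl (even_iff_two_dvd.1 h))
      (by rw [← Subgroup.relIndex_mul_index hMS, hMrel, pow_one])
      (fun g hg => h1 x hx.2 hxC (hinv hx.2 hxC) g (by simpa using hg)) hx.1
  -- the Sylow subgroup of `O`
  have hSO : ¬ 2 ∣ (S ⊓ O).relIndex O := by
    intro hd
    have h1 := hrel (inf_le_left : S ⊓ O ≤ S)
    have h2 := hrel (inf_le_right : S ⊓ O ≤ O)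
    have h3 := hrel (le_sup_left : S ≤ S ⊔ O)
    have h4 := hrel (le_sup_right : O ≤ S ⊔ O)
    rw [Subgroup.inf_relIndex_left] at h1
    rw [Subgroup.relIndex_sup_right] at h4
    refine hSsyl (hd.trans ⟨(S ⊔ O).index, ?_⟩)
    rw [← Subgroup.relIndex_mul_index (le_sup_left : S ≤ S ⊔ O)]
    congr 1
    refine Nat.eq_of_mul_eq_mul_left (Nat.card_pos : 0 < Nat.card ↥S) ?_
    rw [h3, ← h4, ← h2, ← h1]
    ring
  have hSO_mem : ∀ s ∈ S, s ∈ O → ∃ t ∈ T, ∃ d ∈ O ⊓ D, t * d = s := by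
    intro s hs hsO
    obtain ⟨t, ht, d, hd, rfl⟩ := hS s hs
    refine ⟨t, ht, d, ⟨?_, hd⟩, rfl⟩
    simpa [← mul_assoc] using mul_mem (inv_mem (hTO ht)) hsO
  -- step 2
  have hOD : O ⊓ D = ⊥ := by
    by_contra hne
    haveI : Nontrivial ↥(O ⊓ D) := (Subgroup.nontrivial_iff_ne_bot _).2 hne
    obtain ⟨m, hm0, hm⟩ := (hS2.to_le (inf_le_right.trans hDS)).nontrivial_iff_card.1
      (inferInstance : Nontrivial ↥(O ⊓ D))
    haveI : IsCyclic ↥(O ⊓ D) := Subgroup.isCyclic_of_le hODC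
    obtain ⟨⟨y, hy⟩, hygen⟩ := IsCyclic.exists_generator (α := ↥(O ⊓ D))
    have hyo : orderOf y = 2 ^ m := by
      rw [← hm, ← orderOf_eq_card_of_forall_mem_zpowers hygen, Subgroup.orderOf_mk]
    have hdiv : 2 ^ (m - 1) ∣ orderOf y := hyo ▸ pow_dvd_pow 2 (Nat.sub_le m 1)
    have hco : orderOf (y ^ 2 ^ (m - 1)) = 2 := by
      rw [orderOf_pow_of_dvd (by positivity) hdiv, hyo, Nat.pow_div (Nat.sub_le m 1) two_pos,
        show m - (m - 1) = 1 by omega, pow_one]
    have hTrel : T.relIndex (S ⊓ O) = 2 ^ m := by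
      have h := hrel (le_inf hTS hTO)
      have hbij : Function.Bijective (fun q : ↥T × ↥(O ⊓ D) => (⟨(q.1 : G) * q.2,
          Subgroup.mem_inf.2 ⟨mul_mem (hTS q.1.2) (hDS q.2.2.2), mul_mem (hTO q.1.2) q.2.2.1⟩⟩ :
            ↥(S ⊓ O))) := by
        refine ⟨fun a b h => hinj inf_le_right (congrArg Subtype.val h), fun s => ?_⟩
        obtain ⟨t, ht, d, hd, he⟩ := hSO_mem s s.2.1 s.2.2
        exact ⟨⟨⟨t, ht⟩, ⟨d, hd⟩⟩, Subtype.ext he⟩
      have hc := Nat.card_eq_of_bijective _ hbij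
      rw [Nat.card_prod, hm, ← h] at hc
      exact (Nat.eq_of_mul_eq_mul_left Nat.card_pos hc).symm
    have hidx : (T.subgroupOf O).index = 2 ^ m * (S ⊓ O).relIndex O := by
      rw [← hTrel, Subgroup.relIndex_mul_relIndex _ _ _ (le_inf hTS hTO) inf_le_right]
      rfl
    refine notMem_pResidual_two (T.subgroupOf O) (⟨y, hy.1⟩ : ↥O) (Nat.one_le_iff_ne_zero.2 hm0.ne')
      (Subtype.ext (show y ^ 2 ^ m = 1 by rw [← hyo, pow_orderOf_eq_one]))
      (Nat.not_even_iff_odd.1 fun h => hSO (even_iff_two_dvd.1 h)) hidx (fun g hg => ?_)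
      (by rw [Transfer.PResidual.pResidual_pResidual (p := 2) (G := G)]; exact Subgroup.mem_top _)
    exact h2 _ (pow_mem (hODC hy) _) hco (g : G) hg
  refine ⟨O, inferInstance, ?_, fun T' hT'L _ hT' => ⟨hT'L.trans hLO, ?_⟩⟩
  · let P : Sylow 2 G := hS2.toSylow hSsyl
    rw [eq_top_iff, ← Transfer.PResidual.sup_sylow_eq_top (p := 2) P]
    refine sup_le le_sup_left fun s hs => ?_
    obtain ⟨t, ht, d, hd, rfl⟩ := hS s hs
    exact mul_mem (Subgroup.mem_sup_left (hTO ht)) (Subgroup.mem_sup_right hd)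
  · have hTSO : S ⊓ O = T := by
      refine le_antisymm ?_ (le_inf hTS hTO)
      intro s hs
      obtain ⟨t, ht, d, hd, rfl⟩ := hSO_mem s hs.1 hs.2
      rw [hOD, Subgroup.mem_bot] at hd
      rwa [hd, mul_one]
    rw [hTSO] at hSO
    rw [← Subgroup.relIndex_mul_relIndex T' L O hT'L hLO]
    rw [← Subgroup.relIndex_mul_relIndex T L O hTL hLO] at hSO
    intro hd
    rcases (Nat.prime_two.dvd_mul).1 hd with h | h
    · exact hT' h
    · exact hSO (dvd_mul_of_dvd_right h _)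

end Cfsg.Agent.Lib.Tech42.TransferDihedral
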