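import Cfsg.Agent.Lib.Involutions.StronglyEmbedded

/-!
# An odd-order transitive subgroup in a strongly embedded subgroup

Owner: helper42.  Namespace `Cfsg.Agent.Lib.Tech42.TransitiveCore`.
* `eq_one_of_inverted`: no nontrivial element of `H` inverted from outside centralizes an involution of `H`;
* `card_invol`: conjugate involutions are counted by a centralizer index;
* `exists_odd_transitive`: `H = D C_H(i)` with `D` of odd order.
-/

set_option autoImplicit false
set_option linter.style.haveILetI false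

namespace Cfsg.Agent.Lib.Tech42.TransitiveCore

open Cfsg.Agent.Lib.Involutions

variable {G : Type*} [Group G] [Finite G] {H : Subgroup G}

theorem eq_one_of_inverted (hC : ∀ i ∈ H, orderOf i = 2 → Subgroup.centralizer ({i} : Set G) ≤ H)
    {x u i : G} (hu : orderOf u = 2) (huH : u ∉ H) (hxH : x ∈ H) (hinv : u * x * u⁻¹ = x⁻¹)
    (hi : orderOf i = 2) (hiH : i ∈ H) (hix : Commute i x) : x = 1 := by
  by_contra hx1
  set N := Subgroup.normalizer (Subgroup.zpowers x : Set G) with hN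
  have hiN : i ∈ N := by
    refine Subgroup.centralizer_le_normalizer _ ?_
    rwa [Subgroup.zpowers_eq_closure, Subgroup.centralizer_closure, Subgroup.mem_centralizer_singleton_iff]
  have huN : u ∈ N := by
    refine Subgroup.mem_normalizer_iff_map_conj_eq.2 ?_
    rw [MonoidHom.map_zpowers]
    show Subgroup.zpowers (u * x * u⁻¹) = _
    rw [hinv, Subgroup.zpowers_inv]
  have hi' : orderOf (⟨i, hiN⟩ : ↥N) = 2 := by rw [Subgroup.orderOf_mk]; exact hi
  have hu' : orderOf (⟨u, huN⟩ : ↥N) = 2 := by rw [Subgroup.orderOf_mk]; exact hu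
  by_cases hc : IsConj (⟨i, hiN⟩ : ↥N) ⟨u, huN⟩
  · obtain ⟨⟨n, hnN⟩, hn⟩ := isConj_iff.1 hc
    have hn' : n * i * n⁻¹ = u := congrArg Subtype.val hn
    have hnx : x ∈ Subgroup.zpowers (n * x * n⁻¹) := by
      have h := Subgroup.mem_normalizer_iff_map_conj_eq.1 hnN
      rw [MonoidHom.map_zpowers] at h
      exact h.ge (Subgroup.mem_zpowers x)
    obtain ⟨a, ha⟩ := Subgroup.mem_zpowers_iff.1 hnx
    have hux : Commute u x := by
      rw [← hn', ← ha]
      exact (hix.map (MulAut.conj n)).zpow_right a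
    rw [hux.eq, mul_inv_cancel_right] at hinv
    have hx2 : orderOf x = 2 :=
      Basic.invol_iff.2 ⟨by nth_rewrite 2 [hinv]; exact mul_inv_cancel x, hx1⟩
    exact huH (hC x hxH hx2 (Subgroup.mem_centralizer_singleton_iff.2 hux.eq))
  · obtain ⟨hz, hzi, hzu⟩ := Basic.central_invol hi' hu' (Basic.even_of_not_isConj hi' hu' hc)
    rw [← Subgroup.orderOf_coe] at hz
    have hzH := hC i hiH hi (Subgroup.mem_centralizer_singleton_iff.2 (congrArg Subtype.val hzi.eq))
    exact huH (hC _ hzH hz (Subgroup.mem_centralizer_singleton_iff.2 (congrArg Subtype.val hzu.eq.symm)))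

/-- Conjugate involutions are counted by the index of a centralizer. -/
theorem card_invol {i : G} (hi : orderOf i = 2) (h : ∀ u : G, orderOf u = 2 → IsConj i u) :
    Nat.card {u : G // orderOf u = 2} = (Subgroup.centralizer ({i} : Set G)).index := by
  rw [Subgroup.index]
  refine Nat.card_congr (Equiv.ofBijective (fun u => ((isConj_iff.1 (h u.1 u.2)).choose :
    G ⧸ Subgroup.centralizer ({i} : Set G))) ⟨fun u v huv => ?_, fun c => ?_⟩)
  · have e1 := (isConj_iff.1 (h u.1 u.2)).choose_spec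
    have e2 := (isConj_iff.1 (h v.1 v.2)).choose_spec
    have hm := QuotientGroup.eq.1 huv
    refine Subtype.ext ?_
    rw [← e1, ← e2]
    generalize (isConj_iff.1 (h u.1 u.2)).choose = a at hm
    generalize (isConj_iff.1 (h v.1 v.2)).choose = b at hm
    have := Subgroup.mem_centralizer_singleton_iff.1 hm
    calc a * i * a⁻¹ = a * (i * (a⁻¹ * b)) * b⁻¹ := by group
      _ = a * ((a⁻¹ * b) * i) * b⁻¹ := by rw [this]
      _ = _ := by group
  · induction c using QuotientGroup.induction_on with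
    | H g =>
      refine ⟨⟨g * i * g⁻¹, (Basic.orderOf_conj_eq g i).trans hi⟩, QuotientGroup.eq.2 ?_⟩
      have e := (isConj_iff.1 (h (g * i * g⁻¹) ((Basic.orderOf_conj_eq g i).trans hi))).choose_spec
      generalize (isConj_iff.1 (h (g * i * g⁻¹) ((Basic.orderOf_conj_eq g i).trans hi))).choose = a at e ⊢
      refine Subgroup.mem_centralizer_singleton_iff.2 ?_
      calc a⁻¹ * g * i = a⁻¹ * (g * i * g⁻¹) * g := by group
        _ = a⁻¹ * (a * i * a⁻¹) * g := by rw [e]
        _ = _ := by group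

/-- An odd-order subgroup of a strongly embedded subgroup is transitive on its involutions. -/
theorem exists_odd_transitive (hSE : Cfsg.IsStronglyEmbedded H) {i : G} (hi : orderOf i = 2)
    (hiH : i ∈ H) :
    ∃ D : Subgroup G, D ≤ H ∧ Odd (Nat.card ↥D) ∧
      ∀ m ∈ H, ∃ a ∈ D, Commute (a⁻¹ * m) i := by
  classical
  have hC := fun j hj hjo => StronglyEmbedded.centralizer_le hSE (t := j) hjo hj
  set c := Subgroup.centralizer ({i} : Set G) with hc
  have hcH : c ≤ H := hC i hiH hi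
  -- the involutions of `H`
  set J := {u : ↥H // orderOf u = 2}
  have hconjH : ∀ u : ↥H, orderOf u = 2 → IsConj (⟨i, hiH⟩ : ↥H) u := by
    intro u hu
    rw [← Subgroup.orderOf_coe] at hu
    obtain ⟨g, hg⟩ := isConj_iff.1 (StronglyEmbedded.isConj_involutions hSE hi hu)
    exact isConj_iff.2 ⟨⟨g, StronglyEmbedded.mem_of_conj_mem hSE hi hiH (hg ▸ u.2)⟩, Subtype.ext hg⟩
  have hJ : Nat.card J = c.relIndex H := by
    rw [card_invol (by rw [Subgroup.orderOf_mk]; exact hi) hconjH, Subgroup.relIndex]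
    congr 1
    ext u
    rw [Subgroup.mem_subgroupOf, hc, Subgroup.mem_centralizer_singleton_iff,
      Subgroup.mem_centralizer_singleton_iff]
    exact ⟨congrArg Subtype.val, fun h => Subtype.ext h⟩
  -- the map from the involutions of a coset to those of `H`
  have hDodd : ∀ t : G, t ∉ H → Odd (Nat.card ↥(H ⊓ H.map (MulAut.conj t).toMonoidHom)) := hSE.2.2
  have hmem : ∀ t u : G, orderOf t = 2 → orderOf u = 2 → t⁻¹ * u ∈ H →
      t⁻¹ * u ∈ H ⊓ H.map (MulAut.conj t).toMonoidHom := by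
    intro t u ht hu h
    refine ⟨h, StronglyEmbedded.mem_conj_iff.2 ?_⟩
    have := H.inv_mem h
    rwa [mul_inv_rev, inv_inv, Basic.invol_inv hu, show u * t = t⁻¹ * (t⁻¹ * u) * t by
      rw [Basic.invol_inv ht, ← mul_assoc t t, Basic.invol_mul_self ht, one_mul]] at this
  let f : ∀ (t : {u : G // orderOf u = 2}),
      {u : {u : G // orderOf u = 2} // (u.1 : G ⧸ H) = (t.1 : G ⧸ H)} → J := fun t u =>
    ⟨⟨(t.1⁻¹ * u.1.1) * i * (t.1⁻¹ * u.1.1)⁻¹,
      H.mul_mem (H.mul_mem (QuotientGroup.eq.1 u.2.symm) hiH) (H.inv_mem (QuotientGroup.eq.1 u.2.symm))⟩,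
      by rw [Subgroup.orderOf_mk, Basic.orderOf_conj_eq]; exact hi⟩
  have hf : ∀ t, t.1 ∉ H → Function.Injective (f t) := by
    rintro ⟨t, ht⟩ htH ⟨⟨u, hu⟩, hut⟩ ⟨⟨v, hv⟩, hvt⟩ h
    have hd := QuotientGroup.eq.1 hut.symm
    have he := QuotientGroup.eq.1 hvt.symm
    have h' : t⁻¹ * u * i * (t⁻¹ * u)⁻¹ = t⁻¹ * v * i * (t⁻¹ * v)⁻¹ :=
      congrArg (fun a : J => (a.1 : G)) h
    have hti := Basic.invol_inv ht
    have hui := Basic.invol_inv hu
    have hvi := Basic.invol_inv hv
    have hx : (t⁻¹ * u)⁻¹ * (t⁻¹ * v) = u * v := by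
      rw [mul_inv_rev, inv_inv, hui, mul_assoc, mul_inv_cancel_left]
    have huH : u ∉ H := fun h0 => htH (by
      have := H.mul_mem h0 (H.inv_mem hd)
      rwa [mul_inv_rev, inv_inv, mul_inv_cancel_left] at this)
    have hxi : Commute i ((t⁻¹ * u)⁻¹ * (t⁻¹ * v)) := by
      show i * ((t⁻¹ * u)⁻¹ * (t⁻¹ * v)) = (t⁻¹ * u)⁻¹ * (t⁻¹ * v) * i
      generalize t⁻¹ * u = d at h'
      generalize t⁻¹ * v = e at h'
      calc i * (d⁻¹ * e) = d⁻¹ * (d * i * d⁻¹) * e := by group
        _ = d⁻¹ * (e * i * e⁻¹) * e := by rw [h']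
        _ = _ := by group
    have h1 := eq_one_of_inverted hC hu huH (H.mul_mem (H.inv_mem hd) he) (by
      rw [hx, mul_inv_rev, hvi, hui, ← mul_assoc u u, Basic.invol_mul_self hu, one_mul]) hi hiH hxi
    rw [inv_mul_eq_one] at h1
    exact Subtype.ext (Subtype.ext (mul_left_cancel h1))
  -- counting
  set q : {u : G // orderOf u = 2} → G ⧸ H := fun u => (u.1 : G ⧸ H)
  haveI := Fintype.ofFinite (G ⧸ H)
  have hle : ∀ b : G ⧸ H, Nat.card {u // q u = b} ≤ Nat.card J := by
    intro b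
    by_cases hb : b = ((1 : G) : G ⧸ H)
    · subst hb
      refine Nat.card_le_card_of_injective (fun u => (⟨⟨u.1.1, by
        simpa using QuotientGroup.eq.1 u.2⟩, by rw [Subgroup.orderOf_mk]; exact u.1.2⟩ : J)) ?_
      intro u v h
      exact Subtype.ext (Subtype.ext (congrArg (fun a : J => (a.1 : G)) h :))
    · cases isEmpty_or_nonempty {u // q u = b} with
      | inl h => simp
      | inr h =>
        obtain ⟨t, rfl⟩ := h
        refine Nat.card_le_card_of_injective (f t) (hf t fun h0 => hb ?_)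
        exact QuotientGroup.eq.2 (by simpa using h0)
  have hsum : ∑ b : G ⧸ H, Nat.card {u // q u = b} = ∑ _b : G ⧸ H, Nat.card J := by
    rw [← Nat.card_sigma, Nat.card_congr (Equiv.sigmaFiberEquiv q),
      card_invol hi (fun u hu => StronglyEmbedded.isConj_involutions hSE hi hu), Finset.sum_const,
      Finset.card_univ, ← Nat.card_eq_fintype_card, ← Subgroup.index, smul_eq_mul, hJ, mul_comm,
      Subgroup.relIndex_mul_index hcH]
  have heq := (Finset.sum_eq_sum_iff_of_le fun b _ => hle b).1 hsum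
  -- an involution outside `H`
  obtain ⟨g, -, hg⟩ := SetLike.exists_of_lt (lt_top_iff_ne_top.2 hSE.1)
  set t : {u : G // orderOf u = 2} := ⟨g * i * g⁻¹, (Basic.orderOf_conj_eq g i).trans hi⟩
  have htH : t.1 ∉ H := fun h => hg (StronglyEmbedded.mem_of_conj_mem hSE hi hiH h)
  have hbij : Function.Bijective (f t) := by
    rw [Nat.bijective_iff_injective_and_card]
    exact ⟨hf t htH, heq (q t) (Finset.mem_univ _)⟩
  refine ⟨_, inf_le_left, hDodd t.1 htH, fun m hm => ?_⟩
  obtain ⟨u, hu⟩ := hbij.2 ⟨⟨m * i * m⁻¹, H.mul_mem (H.mul_mem hm hiH) (H.inv_mem hm)⟩,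
    by rw [Subgroup.orderOf_mk, Basic.orderOf_conj_eq]; exact hi⟩
  have hu' : t.1⁻¹ * u.1.1 * i * (t.1⁻¹ * u.1.1)⁻¹ = m * i * m⁻¹ :=
    congrArg (fun a : J => (a.1 : G)) hu
  refine ⟨t.1⁻¹ * u.1.1, hmem _ _ t.2 u.1.2 (QuotientGroup.eq.1 u.2.symm), ?_⟩
  generalize t.1⁻¹ * u.1.1 = a at hu'
  show a⁻¹ * m * i = i * (a⁻¹ * m)
  calc a⁻¹ * m * i = a⁻¹ * (m * i * m⁻¹) * m := by group
    _ = a⁻¹ * (a * i * a⁻¹) * m := by rw [hu']
    _ = _ := by group

end Cfsg.Agent.Lib.Tech42.TransitiveCore
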