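import Cfsg.Prelude.Def_Classical
import Cfsg.Agent.Lib.U33.Arith
import Cfsg.Agent.Lib.Unitary.Transvection
import Cfsg.Agent.Lib.Schur.CoverSL32
import Cfsg.Agent.Lib.Linear.SmallIso.PSL7

/-!
`PSL₂(7)` inside `PSU₃(3)`: the images of the elements of `SL₂(7)` as coded matrices.

Owner: helper42.
-/

set_option autoImplicit false
set_option maxRecDepth 100000
set_option linter.style.haveILetI false

namespace Cfsg.Agent.Lib.Tech42.U33Klein

open Cfsg Matrix
open scoped MatrixGroups
open Cfsg.Agent.Lib.U33
open Cfsg.Agent.Lib.Schur.CoverSL32 (code gen gen_false_mul gen_true_mul evalWord exists_word)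

/-- Codes of the images. -/
def imgTable : List (Nat × Nat) :=
  [(91, 0x48711511),
  (92, 0x826115143),
  (93, 0x635550365),
  (94, 0x507030505),
  (95, 0x762045562),
  (96, 0x228526256),
  (97, 0x870627625),
  (119, 0x164317740),
  (120, 0x338286761),
  (121, 0x20707804),
  (122, 0x861173667),
  (123, 0x433722057),
  (124, 0x880637128),
  (125, 0x58731416),
  (161, 0x124214770),
  (162, 0x342335713),
  (163, 0x671532227),
  (164, 0x423823087),
  (165, 0x466075522),
  (166, 0x404408060),
  (167, 0x234580315),
  (231, 0x124214770),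
  (232, 0x234580315),
  (233, 0x404408060),
  (234, 0x466075522),
  (235, 0x423823087),
  (236, 0x671532227),
  (237, 0x342335713),
  (273, 0x164317740),
  (274, 0x58731416),
  (275, 0x880637128),
  (276, 0x433722057),
  (277, 0x861173667),
  (278, 0x20707804),
  (279, 0x338286761),
  (301, 0x48711511),
  (302, 0x870627625),
  (303, 0x228526256),
  (304, 0x762045562),
  (305, 0x507030505),
  (306, 0x635550365),
  (307, 0x826115143),
  (344, 0x100010001),
  (351, 0x625172723),
  (358, 0x731634246),
  (365, 0x686433334),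
  (372, 0x376566367),
  (379, 0x432667173),
  (386, 0x314242826),
  (393, 0x1440570),
  (401, 0x256641407),
  (409, 0x707346152),
  (417, 0x726164343),
  (425, 0x373235413),
  (433, 0x74416731),
  (434, 0x533422048),
  (442, 0x570664225),
  (451, 0x562246634),
  (460, 0x637153831),
  (462, 0x47861513),
  (471, 0x733822084),
  (480, 0x10804707),
  (489, 0x165314870),
  (491, 0x225866252),
  (501, 0x505152346),
  (504, 0x286651708),
  (514, 0x300058085),
  (524, 0x167318450),
  (527, 0x440128637),
  (537, 0x141533228),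
  (540, 0x252238832),
  (551, 0x365831153),
  (555, 0x722386217),
  (566, 0x3020600),
  (570, 0x411353114),
  (574, 0x664761286),
  (585, 0x241165762),
  (589, 0x832432078),
  (601, 0x143708651),
  (606, 0x317723172),
  (611, 0x840880006),
  (616, 0x624653531),
  (628, 0x866057722),
  (633, 0x242141507),
  (638, 0x78074100),
  (644, 0x511217386),
  (657, 0x173407641),
  (663, 0x668338480),
  (669, 0x676656705),
  (675, 0x238740317),
  (681, 0x422241635),
  (690, 0x656413235),
  (697, 0x346516168),
  (704, 0x522668171),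
  (711, 0x114256526),
  (718, 0x30002300),
  (725, 0x125183423),
  (732, 0x811635241),
  (739, 0x318531653),
  (743, 0x723276218),
  (754, 0x60300002),
  (758, 0x413143115),
  (769, 0x627461686),
  (773, 0x271125466),
  (777, 0x282228533),
  (788, 0x566084822),
  (796, 0x153805681),
  (804, 0x315686461),
  (805, 0x531562045),
  (813, 0x550750003),
  (821, 0x251271404),
  (829, 0x628826242),
  (837, 0x353705656),
  (842, 0x407372352),
  (847, 0x770003750),
  (859, 0x84511711),
  (864, 0x526054726),
  (869, 0x462251234),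
  (881, 0x182762165),
  (886, 0x235450318),
  (895, 0x651368816),
  (897, 0x713726054),
  (906, 0x705505030),
  (915, 0x115117840),
  (917, 0x382462124),
  (926, 0x766048422),
  (935, 0x653367566),
  (941, 0x634643833),
  (947, 0x227840117),
  (953, 0x450625627),
  (959, 0x45200047),
  (972, 0x504382342),
  (978, 0x181507141),
  (984, 0x822114353),
  (987, 0x386683808),
  (997, 0x87047200),
  (1007, 0x367365550),
  (1010, 0x711171668),
  (1020, 0x183504671),
  (1023, 0x237870314),
  (1034, 0x372816368),
  (1041, 0x681713335),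
  (1048, 0x831234251),
  (1055, 0x128182733),
  (1062, 0x6600020),
  (1069, 0x117252866),
  (1076, 0x532167181),
  (1083, 0x683168516),
  (1088, 0x833522075),
  (1093, 0x246671504),
  (1105, 0x416237376),
  (1110, 0x85513861),
  (1115, 0x2570440),
  (1120, 0x408373282),
  (1132, 0x805352372),
  (1135, 0x218770214),
  (1145, 0x172404271),
  (1148, 0x740628624),
  (1158, 0x343334433),
  (1168, 0x54100074),
  (1171, 0x335676766),
  (1181, 0x643808683),
  (1189, 0x816087823),
  (1190, 0x708342382),
  (1198, 0x761181167),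
  (1206, 0x480006880),
  (1214, 0x171832238),
  (1222, 0x75411811),
  (1230, 0x276681805),
  (1236, 0x168315580),
  (1242, 0x152466125),
  (1248, 0x804282373),
  (1254, 0x600085058),
  (1260, 0x750225664),
  (1273, 0x214733182),
  (1279, 0x368833643),
  (1283, 0x352227532),
  (1294, 0x641124462),
  (1298, 0x667766676),
  (1302, 0x513343164),
  (1313, 0x200001010),
  (1317, 0x823376237),
  (1328, 0x516218276),
  (1330, 0x808060408),
  (1339, 0x217423183),
  (1348, 0x57811411),
  (1357, 0x334480338),
  (1359, 0x461078432),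
  (1368, 0x580624628),
  (1374, 0x372816368),
  (1381, 0x532167181),
  (1388, 0x117252866),
  (1395, 0x6600020),
  (1402, 0x128182733),
  (1409, 0x831234251),
  (1416, 0x681713335),
  (1423, 0x516218276),
  (1432, 0x580624628),
  (1441, 0x461078432),
  (1443, 0x334480338),
  (1452, 0x57811411),
  (1461, 0x217423183),
  (1463, 0x808060408),
  (1472, 0x368833643),
  (1483, 0x823376237),
  (1487, 0x200001010),
  (1491, 0x513343164),
  (1502, 0x667766676),
  (1506, 0x641124462),
  (1517, 0x352227532),
  (1521, 0x276681805),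
  (1527, 0x214733182),
  (1533, 0x750225664),
  (1546, 0x600085058),
  (1552, 0x804282373),
  (1558, 0x152466125),
  (1564, 0x168315580),
  (1570, 0x643808683),
  (1578, 0x75411811),
  (1586, 0x171832238),
  (1594, 0x480006880),
  (1602, 0x761181167),
  (1603, 0x708342382),
  (1611, 0x816087823),
  (1619, 0x805352372),
  (1629, 0x335676766),
  (1632, 0x54100074),
  (1642, 0x343334433),
  (1645, 0x740628624),
  (1655, 0x172404271),
  (1665, 0x218770214),
  (1668, 0x683168516),
  (1673, 0x408373282),
  (1685, 0x2570440),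
  (1690, 0x85513861),
  (1695, 0x416237376),
  (1707, 0x246671504),
  (1712, 0x833522075),
  (1718, 0x656413235),
  (1725, 0x811635241),
  (1732, 0x125183423),
  (1739, 0x30002300),
  (1746, 0x114256526),
  (1753, 0x522668171),
  (1760, 0x346516168),
  (1767, 0x822114353),
  (1777, 0x237870314),
  (1780, 0x183504671),
  (1790, 0x711171668),
  (1793, 0x367365550),
  (1803, 0x87047200),
  (1806, 0x386683808),
  (1816, 0x653367566),
  (1822, 0x181507141),
  (1828, 0x504382342),
  (1834, 0x45200047),
  (1847, 0x450625627),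
  (1853, 0x227840117),
  (1859, 0x634643833),
  (1865, 0x235450318),
  (1874, 0x766048422),
  (1876, 0x382462124),
  (1885, 0x115117840),
  (1894, 0x705505030),
  (1903, 0x713726054),
  (1905, 0x651368816),
  (1914, 0x353705656),
  (1919, 0x182762165),
  (1931, 0x462251234),
  (1936, 0x526054726),
  (1941, 0x84511711),
  (1946, 0x770003750),
  (1958, 0x407372352),
  (1963, 0x566084822),
  (1971, 0x628826242),
  (1979, 0x251271404),
  (1987, 0x550750003),
  (1988, 0x531562045),
  (1996, 0x315686461),
  (2004, 0x153805681),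
  (2012, 0x318531653),
  (2016, 0x282228533),
  (2027, 0x271125466),
  (2031, 0x627461686),
  (2042, 0x413143115),
  (2046, 0x60300002),
  (2057, 0x723276218),
  (2064, 0x100010001),
  (2071, 0x314242826),
  (2078, 0x432667173),
  (2085, 0x376566367),
  (2092, 0x686433334),
  (2099, 0x731634246),
  (2106, 0x625172723),
  (2113, 0x78074100),
  (2119, 0x422241635),
  (2125, 0x238740317),
  (2131, 0x676656705),
  (2137, 0x668338480),
  (2143, 0x173407641),
  (2149, 0x511217386),
  (2162, 0x832432078),
  (2167, 0x242141507),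
  (2172, 0x866057722),
  (2177, 0x624653531),
  (2189, 0x840880006),
  (2194, 0x317723172),
  (2199, 0x143708651),
  (2211, 0x252238832),
  (2215, 0x241165762),
  (2219, 0x664761286),
  (2230, 0x411353114),
  (2234, 0x3020600),
  (2245, 0x722386217),
  (2249, 0x365831153),
  (2260, 0x225866252),
  (2263, 0x141533228),
  (2273, 0x440128637),
  (2276, 0x167318450),
  (2286, 0x300058085),
  (2289, 0x286651708),
  (2299, 0x505152346),
  (2309, 0x570664225),
  (2311, 0x165314870),
  (2320, 0x10804707),
  (2329, 0x733822084),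
  (2331, 0x47861513),
  (2340, 0x637153831),
  (2349, 0x562246634),
  (2358, 0x1440570),
  (2359, 0x533422048),
  (2367, 0x74416731),
  (2375, 0x373235413),
  (2383, 0x726164343),
  (2391, 0x707346152),
  (2399, 0x256641407)]

/-- Image code of a code. -/
def lookImg (c : Nat) : Nat := ((imgTable.find? fun r => r.1 == c).map fun r => r.2).getD 0

/-- Image codes of the generators. -/
def genCode : Bool → Nat
  | false => 0x48711511
  | true => 0x1440570

/-- The image code of an element. -/
def imgCode (g : SL(2, ZMod 7)) : Nat := lookImg (code (g 0 0) (g 0 1) (g 1 0) (g 1 1))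

theorem good_gen : ∀ s, goodN (genCode s) = true := by decide +kernel

theorem img_table : ∀ a b c d : ZMod 7, a * d - b * c = 1 →
    goodN (lookImg (code a b c d)) = true ∧
    eqProd (genCode false) (lookImg (code a b c d)) (lookImg (code (-c) (-d) a b)) idN = true ∧
    eqProd (genCode true) (lookImg (code a b c d)) (lookImg (code (a + c) (b + d) c d)) idN = true := by
  decide +kernel

theorem img_det (g : SL(2, ZMod 7)) : g 0 0 * g 1 1 - g 0 1 * g 1 0 = 1 := by
  rw [← Matrix.det_fin_two]; exact g.det_coe

theorem good_img (g : SL(2, ZMod 7)) : goodN (imgCode g) = true := (img_table _ _ _ _ (img_det g)).1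

/-- The map to `SU₃(3)`. -/
def imgEl (g : SL(2, ZMod 7)) : ↥(SU 3 K9 3) := el (imgCode g)

theorem imgEl_gen (s : Bool) (g : SL(2, ZMod 7)) : imgEl (gen s * g) = el (genCode s) * imgEl g := by
  have h := img_table _ _ _ _ (img_det g)
  have hid : goodN idN = true := by decide +kernel
  have key : ∀ A : Nat, goodN A = true → eqProd (genCode s) (imgCode g) A idN = true →
      el A = el (genCode s) * imgEl g := fun A hA hp => by
    rw [imgEl, el_mul (good_gen s) (good_img g) hA hid hp, el_idN, mul_one]
  refine key _ (good_img _) ?_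
  cases s
  · obtain ⟨e1, e2, e3, e4⟩ := gen_false_mul g
    simp only [imgCode, e1, e2, e3, e4]; exact h.2.1
  · obtain ⟨e1, e2, e3, e4⟩ := gen_true_mul g
    simp only [imgCode, e1, e2, e3, e4]; exact h.2.2

theorem imgEl_one : imgEl 1 = 1 := by
  have h : imgCode 1 = idN := by decide +kernel
  rw [imgEl, h, el_idN]

/-- The product of the images of a word. -/
def imgProd : List Bool → ↥(SU 3 K9 3)
  | [] => 1
  | s :: l => el (genCode s) * imgProd l

theorem imgEl_word (l : List Bool) (h : SL(2, ZMod 7)) : imgEl (evalWord l * h) = imgProd l * imgEl h := by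
  induction l with
  | nil => simp [evalWord, imgProd]
  | cons s l ih => rw [evalWord, imgProd, mul_assoc, imgEl_gen, ih, mul_assoc]

theorem imgEl_mul (g h : SL(2, ZMod 7)) : imgEl (g * h) = imgEl g * imgEl h := by
  obtain ⟨l, rfl⟩ := exists_word g
  have h1 := imgEl_word l 1
  rw [mul_one, imgEl_one, mul_one] at h1
  rw [imgEl_word, h1]

/-- The homomorphism. -/
def imgHom : SL(2, ZMod 7) →* ↥(SU 3 K9 3) where
  toFun := imgEl
  map_one' := imgEl_one
  map_mul' := imgEl_mul

theorem imgHom_neg : imgHom (-1) = 1 := by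
  show imgEl (-1) = 1
  have h : imgCode (-1) = idN := by decide +kernel
  rw [imgEl, h, el_idN]

theorem imgHom_gen_ne : imgHom (gen true) ≠ 1 := by
  intro h
  have h' : el (imgCode (gen true)) = el idN := by rw [el_idN]; exact h
  have := el_inj (good_img _) (by decide +kernel) h'
  exact absurd this (by decide +kernel)

/-- `PSL₂(7)` embeds into `SU₃(3)`. -/
theorem exists_psl_hom :
    ∃ ψ : Matrix.ProjectiveSpecialLinearGroup (Fin 2) (ZMod 7) →* ↥(SU 3 K9 3),
      Function.Injective ψ := by
  haveI : IsSimpleGroup (Matrix.ProjectiveSpecialLinearGroup (Fin 2) (ZMod 7)) :=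
    Cfsg.Agent.Lib.Linear.isSimpleGroup_PSL le_rfl
      (fun _ => by rw [Nat.card_eq_fintype_card, ZMod.card]; norm_num)
  obtain ⟨ψ, hψ, -⟩ := Cfsg.Agent.Lib.Linear.exists_injective_psl imgHom (fun z hz => by
    obtain ⟨r, hr, hr'⟩ := Matrix.SpecialLinearGroup.mem_center_iff.1 hz
    have key : ∀ x : ZMod 7, x ^ Fintype.card (Fin 2) = 1 → x = 1 ∨ x = -1 := by decide +kernel
    rcases key r hr with rfl | rfl
    · rw [show z = 1 from Subtype.ext (by rw [← hr']; simp), map_one]
    · rw [show z = -1 from Subtype.ext (by rw [← hr']; ext i j; fin_cases i <;> fin_cases j <;> simp), imgHom_neg]) ⟨gen true, imgHom_gen_ne⟩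
  exact ⟨ψ, hψ⟩

/-- Transport to any field with nine elements. -/
theorem exists_su_equiv (F : Type*) [Field F] [Fintype F] (hF : Fintype.card F = 9) :
    Nonempty (↥(SU 3 K9 3) ≃* ↥(SU 3 F 3)) := by
  let φ : K9 ≃+* F := FiniteField.ringEquivOfCardEq (K := K9) (K' := F) (by rw [hF, card_k9]; rfl)
  let Φ : Matrix.SpecialLinearGroup (Fin 3) K9 ≃* Matrix.SpecialLinearGroup (Fin 3) F :=
    MulEquiv.ofBijective (Matrix.SpecialLinearGroup.map (φ : K9 →+* F)) ⟨fun a b h => by
      ext i j
      exact φ.injective (congrArg (fun m : Matrix.SpecialLinearGroup (Fin 3) F => (m : Matrix _ _ F) i j) h),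
     fun m => ⟨Matrix.SpecialLinearGroup.map (φ.symm : F →+* K9) m, by ext i j; simp⟩⟩
  have key : ∀ g, Φ g ∈ SU 3 F 3 ↔ g ∈ SU 3 K9 3 := by
    intro g
    have hmul : ∀ u, (slToMat 3 F (Φ g)).mulVec (fun i => φ (u i)) = fun i => φ ((slToMat 3 K9 g).mulVec u i) := by
      intro u; funext i
      simp [Φ, Matrix.mulVec, dotProduct, map_sum]
      rfl
    have hf : ∀ u v : Fin 3 → K9, hermForm 3 F 3 (fun i => φ (u i)) (fun i => φ (v i)) = φ (hermForm 3 K9 3 u v) := by
      intro u v; simp [hermForm, map_sum]
    constructor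
    · intro h u v
      apply φ.injective
      rw [← hf, ← hf, ← hmul, ← hmul]
      exact h _ _
    · intro h u v
      have hu : u = fun i => φ (φ.symm (u i)) := by simp
      have hv : v = fun i => φ (φ.symm (v i)) := by simp
      rw [hu, hv, hmul, hmul, hf, hf, h]
  exact ⟨(Φ.subgroupMap (SU 3 K9 3)).trans (MulEquiv.subgroupCongr (by
    ext x
    constructor
    · rintro ⟨g, hg, rfl⟩; exact (key g).2 hg
    · intro hx; exact ⟨Φ.symm x, (key _).1 (by simpa using hx), by simp⟩))⟩

/-- `PSU₃(3)` has a subgroup isomorphic to `PSL₂(7)`. -/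
theorem exists_subgroup {F : Type*} [Field F] [Fintype F] (hF : Fintype.card F = 9)
    {K : Type*} [Field K] [Fintype K] (hK : Fintype.card K = 7) :
    ∃ H : Subgroup (Cfsg.PSU 3 F 3), Nonempty (H ≃* Matrix.ProjectiveSpecialLinearGroup (Fin 2) K) := by
  obtain ⟨ψ, hψ⟩ := exists_psl_hom
  obtain ⟨E⟩ := exists_su_equiv F hF
  haveI : Fact (Nat.Prime 7) := ⟨by norm_num⟩
  obtain ⟨e⟩ := Cfsg.Agent.Lib.Linear.nonempty_pslCongr_zmod (F := K) (ι := Fin 2) 7 hK
  have hbot : Subgroup.center (SU 3 F 3) = ⊥ := by
    haveI : Finite ↥(SU 3 F 3) := inferInstance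
    rw [← Subgroup.card_eq_one, Unitary.card_center_SU (by rw [hF]; rfl) (by norm_num)]
    rfl
  let f : Matrix.ProjectiveSpecialLinearGroup (Fin 2) K →* Cfsg.PSU 3 F 3 :=
    (QuotientGroup.mk' (Subgroup.center (SU 3 F 3))).comp (E.toMonoidHom.comp (ψ.comp e.toMonoidHom))
  have hf : Function.Injective f := by
    have h1 : Function.Injective (QuotientGroup.mk' (Subgroup.center (SU 3 F 3))) := by
      rw [← MonoidHom.ker_eq_bot_iff, QuotientGroup.ker_mk', hbot]
    exact h1.comp (E.injective.comp (hψ.comp e.injective))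
  exact ⟨f.range, ⟨(MonoidHom.ofInjective hf).symm⟩⟩

end Cfsg.Agent.Lib.Tech42.U33Klein
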